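import Cfsg.Agent.Lib.FischerFi22.Relators
import Cfsg.Agent.Lib.FischerOrder.Counts
import Cfsg.Agent.Lib.CosetEnum.Fi22.Simple

set_option autoImplicit false

/-! A group of type M(22) is the Fischer group. -/

namespace CfsgLib.FischerFi22

open Subgroup
open CfsgLib.ThreeTrans (link mul_self inv_eq commute_conj_iff' braid)
open CfsgLib.FischerType (Setting)

universe u

variable {G : Type u} [Group G] {D : Set G}

/-- Reflection data moves along conjugation. -/
theorem Refl.transport (hc : Cfsg.IsThreeTranspositionClass D)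
    {Q : QuadraticForm (ZMod 3) (Fin 6 → ZMod 3)} {c₃ : ZMod 3} {a b : G}
    {R : (Fin 6 → ZMod 3) → G → Prop} (hR : Refl Q c₃ (link D a ∩ link D b) R) (g : G) :
    Refl Q c₃ (link D (g * a * g⁻¹) ∩ link D (g * b * g⁻¹)) fun v x => R v (g⁻¹ * x * g) := by
  have hup : ∀ {p x : G}, g⁻¹ * x * g ∈ link D p → x ∈ link D (g * p * g⁻¹) := by
    intro p x hx
    have h := CfsgLib.FischerType.link_conj_mem hc g hx
    rwa [show g * (g⁻¹ * x * g) * g⁻¹ = x by group] at h
  have hdown : ∀ {p x : G}, x ∈ link D (g * p * g⁻¹) → g⁻¹ * x * g ∈ link D p := by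
    intro p x hx
    have h := CfsgLib.FischerType.link_conj_mem hc g⁻¹ hx
    rwa [inv_inv, show g⁻¹ * (g * p * g⁻¹) * g = p by group] at h
  refine
    { c_ne := hR.c_ne
      nd := hR.nd
      frame := hR.frame
      mem := fun h => ⟨hup (hR.mem h).1, hup (hR.mem h).2⟩
      norm := fun h => hR.norm h
      neg := fun h => hR.neg h
      surj := fun x hx => hR.surj _ ⟨hdown hx.1, hdown hx.2⟩
      exists_pt := ?_
      comm := ?_ }
  · intro v hv
    obtain ⟨x, hx⟩ := hR.exists_pt v hv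
    exact ⟨g * x * g⁻¹, by show R v _; rwa [show g⁻¹ * (g * x * g⁻¹) * g = x by group]⟩
  · intro v w x y h h'
    rw [← hR.comm h h']
    have h1 := commute_conj_iff' g⁻¹ x y
    rw [inv_inv] at h1
    exact h1.symm

/-- Along three members in a line the reflection data moves one step. -/
theorem exists_refl_step (hc : Cfsg.IsThreeTranspositionClass D) {p q r : G}
    (hp : p ∈ D) (hq : q ∈ D) (hr : r ∈ D) (hpq : ¬ Commute p q) (hqr : ¬ Commute q r)
    (hpr : Commute p r) {c₃ : ZMod 3}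
    (hR : ∃ Q R, Refl Q c₃ (link D p ∩ link D q) R) :
    ∃ Q R, Refl Q c₃ (link D q ∩ link D r) R := by
  have hpp := mul_self hc.1 hp
  have hqq := mul_self hc.1 hq
  have hrr := mul_self hc.1 hr
  have b1 : p * q * p = q * p * q := braid hc.1 hp hq hpq
  have b2 : q * r * q = r * q * r := braid hc.1 hq hr hqr
  have hinv : (p * q * r)⁻¹ = r * q * p := by
    rw [mul_inv_rev, mul_inv_rev, inv_eq hc.1 hp, inv_eq hc.1 hq, inv_eq hc.1 hr, mul_assoc]
  have e1 : p * q * r * p * (p * q * r)⁻¹ = q := by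
    rw [hinv]
    calc p * q * r * p * (r * q * p) = p * q * (r * p) * r * q * p := by simp only [mul_assoc]
      _ = p * q * (p * r) * r * q * p := by rw [hpr.eq]
      _ = p * q * p * (r * r) * q * p := by simp only [mul_assoc]
      _ = (p * q * p) * q * p := by rw [hrr, mul_one]
      _ = q * p * (q * q) * p := by rw [b1]; simp only [mul_assoc]
      _ = q * (p * p) := by rw [hqq, mul_one, mul_assoc]
      _ = q := by rw [hpp, mul_one]
  have e2 : p * q * r * q * (p * q * r)⁻¹ = r := by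
    rw [hinv]
    calc p * q * r * q * (r * q * p) = p * (q * r * q) * r * q * p := by simp only [mul_assoc]
      _ = p * r * q * (r * r) * q * p := by rw [b2]; simp only [mul_assoc]
      _ = p * r * (q * q) * p := by rw [hrr, mul_one]; simp only [mul_assoc]
      _ = r * (p * p) := by rw [hqq, mul_one, hpr.eq, mul_assoc]
      _ = r := by rw [hpp, mul_one]
  obtain ⟨Q, R, hR⟩ := hR
  refine ⟨Q, fun v x => R v ((p * q * r)⁻¹ * x * (p * q * r)), ?_⟩
  have h := hR.transport hc (p * q * r)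
  rwa [e1, e2] at h

/-- The other end of the long branch plays the part of the first. -/
def mirror : Fin 9 → Fin 9 := ![6, 5, 4, 3, 2, 1, 0, 7, 8]

theorem y332_mirror : ∀ i j : Fin 9, y332 (mirror i) (mirror j) = y332 i j := by decide +kernel

theorem Diag.mirrored {x : Fin 9 → G} (H : Diag D x) : Diag D fun i => x (mirror i) where
  mem i := H.mem _
  comm i j h := H.comm _ _ (by rw [y332_mirror]; exact h)
  nc i j h := H.nc _ _ (by rw [y332_mirror]; exact h)

theorem pow_eq_one_rotate {s w : G} {n : ℕ} (hs : s * s = 1) (h : (s * w) ^ n = 1) :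
    (w * s) ^ n = 1 := by
  rw [show w * s = s⁻¹ * (s * w) * (s⁻¹)⁻¹ by group, conj_pow, h, mul_one, mul_inv_cancel]

/-- The generators as numbers. -/
def nodeOf : Cfsg.Spor.Fi22.Gen → Fin 9
  | .a => 0
  | .b => 1
  | .c => 2
  | .d => 3
  | .e => 4
  | .f => 5
  | .g => 6
  | .h => 7
  | .i => 8

theorem coxLabel_nodeOf (p q : Cfsg.Spor.Fi22.Gen) :
    Cfsg.Spor.coxLabel Cfsg.Spor.Fi22.edges p q =
      if nodeOf p = nodeOf q then 1 else if y332 (nodeOf p) (nodeOf q) then 3 else 2 := by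
  cases p <;> cases q <;> rfl

variable [Finite G]

/-- A member of the class has every other member as a conjugate of its unitary space. -/
theorem exists_uni_at (S : Setting D) {F : Type} [Field F] [Fintype F]
    {hF : Fintype.card F = 2 ^ 2} {a b : G} {P : (Fin 6 → F) → G → Prop} (U : Uni hF D a P)
    (hb : b ∈ D) : ∃ P' : (Fin 6 → F) → G → Prop, Uni hF D b P' := by
  obtain ⟨g, rfl⟩ := CfsgLib.ThreeTransp.class_conj S.cls U.base hb
  exact ⟨_, U.transport S.cls g⟩

/-- Nine members satisfying all the defining relations. -/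
theorem exists_generators (S : Setting D) (h : Cfsg.IsOfTypeM22 G D) :
    ∃ x : Fin 9 → G, Diag D x ∧
      (x 3 * x 2 * x 1 * x 3 * x 4 * x 5 * x 3 * x 7 * x 8) ^ 10 = 1 ∧
      (x 0 * x 1 * x 2 * x 3 * x 4 * x 5 * x 7) ^ 9 = 1 ∧
      (x 1 * x 2 * x 3 * x 4 * x 5 * x 6 * x 7) ^ 9 = 1 := by
  obtain ⟨-, d, hd, c, hc, hdc, ⟨F, i1, i2, hF4, ⟨e⟩⟩, c₃, hc₃, hproj⟩ := id h
  have hF : Fintype.card F = 2 ^ 2 := hF4.trans (by norm_num)
  have hset := S.cls.1
  have hconj : ∀ g : G, ∀ y ∈ D, g * y * g⁻¹ ∈ D := fun g y hy =>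
    CfsgLib.ThreeTransp.class_conj_mem S.cls g hy
  have U := uni_of_quot S h hd e hF4 hF
  obtain ⟨Q, R, hR⟩ := exists_refl_link S.cls (a := d) (b := c) hc₃ U hproj
  obtain ⟨x, rfl, rfl, H⟩ := exists_diag S.cls hc hdc U hR
  refine ⟨x, H, ?_⟩
  have step : ∀ i j k : Fin 9, y332 i j = true → y332 j k = true → y332 i k = false →
      (∃ Q R, Refl Q c₃ (link D (x i) ∩ link D (x j)) R) →
      ∃ Q R, Refl Q c₃ (link D (x j) ∩ link D (x k)) R := fun i j k h1 h2 h3 =>
    exists_refl_step S.cls (H.mem i) (H.mem j) (H.mem k) (H.nc i j h1) (H.nc j k h2)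
      (H.comm i k h3)
  have r12 := step 0 1 2 (by decide) (by decide) (by decide) ⟨Q, R, hR⟩
  have r56 := step 4 5 6 (by decide) (by decide) (by decide)
    (step 3 4 5 (by decide) (by decide) (by decide)
      (step 2 3 4 (by decide) (by decide) (by decide)
        (step 1 2 3 (by decide) (by decide) (by decide) r12)))
  obtain ⟨Q₁, R₁, hR₁⟩ := r12
  obtain ⟨Q₅, R₅, hR₅⟩ := r56
  obtain ⟨P₁, U₁⟩ := exists_uni_at S U (H.mem 1)
  obtain ⟨P₆, U₆⟩ := exists_uni_at S U (H.mem 6)
  refine ⟨e6_relation hset hconj H U U₁ hR hR₁, e7_relation hset hconj H U hR, ?_⟩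
  have h65 : Refl Q₅ c₃ (link D (x (mirror 0)) ∩ link D (x (mirror 1))) R₅ := by
    rw [Set.inter_comm]; exact hR₅
  have h9 : (x 6 * x 5 * x 4 * x 3 * x 2 * x 1 * x 7) ^ 9 = 1 :=
    e7_relation (x := fun i => x (mirror i)) hset hconj H.mirrored U₆ h65
  have h9' : (x 7 * (x 1 * x 2 * x 3 * x 4 * x 5 * x 6)) ^ 9 = 1 := by
    rw [← inv_eq_one, ← inv_pow]
    convert h9 using 2
    simp only [mul_inv_rev, inv_eq hset (H.mem _), mul_assoc]
  exact pow_eq_one_rotate (mul_self hset (H.mem 7)) h9'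

/-- A group of type M(22) is the Fischer group, the generators going to members of the class. -/
theorem exists_iso (S : Setting D) (h : Cfsg.IsOfTypeM22 G D) :
    ∃ φ : Cfsg.Spor.Fi22 ≃* G, ∀ i < 9, φ (CfsgLib.CosetEnum.Fi22.g i) ∈ D := by
  obtain ⟨x, H, r0, r1, r2⟩ := exists_generators S h
  have hset := S.cls.1
  set f : Cfsg.Spor.Fi22.Gen → G := fun p => x (nodeOf p) with hf
  have hrel : ∀ r ∈ Cfsg.Spor.coxRelators Cfsg.Spor.Fi22.edges ∪ {r | r ∈ Cfsg.Spor.Fi22.extra},
      FreeGroup.lift f r = 1 := by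
    rintro r (⟨p, -, q, -, rfl⟩ | hr)
    · rw [map_pow, map_mul, FreeGroup.lift_apply_of, FreeGroup.lift_apply_of, coxLabel_nodeOf]
      show (x (nodeOf p) * x (nodeOf q)) ^ _ = 1
      by_cases h1 : nodeOf p = nodeOf q
      · rw [if_pos h1, h1, pow_one, mul_self hset (H.mem _)]
      rw [if_neg h1]
      rcases h2 : y332 (nodeOf p) (nodeOf q) with _ | _
      · rw [if_neg (by decide), pow_two]
        have hc := (H.comm _ _ h2).eq
        calc x (nodeOf p) * x (nodeOf q) * (x (nodeOf p) * x (nodeOf q))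
            = x (nodeOf p) * (x (nodeOf q) * x (nodeOf p)) * x (nodeOf q) := by
              simp only [mul_assoc]
          _ = x (nodeOf p) * x (nodeOf p) * (x (nodeOf q) * x (nodeOf q)) := by
              rw [← hc]; simp only [mul_assoc]
          _ = 1 := by rw [mul_self hset (H.mem _), mul_self hset (H.mem _), one_mul]
      · rw [if_pos rfl]
        exact CfsgLib.ThreeTrans.cube_eq_one hset (H.mem _) (H.mem _) (H.nc _ _ h2)
    · simp only [Cfsg.Spor.Fi22.extra, Set.mem_setOf_eq, List.mem_cons, List.not_mem_nil,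
        or_false] at hr
      rcases hr with rfl | rfl | rfl
      all_goals rw [map_pow]; simp only [map_mul, FreeGroup.lift_apply_of]
      exacts [r0, r1, r2]
  set φ : Cfsg.Spor.Fi22 →* G := PresentedGroup.toGroup hrel with hφ
  have hgen : ∀ i < 9, φ (CfsgLib.CosetEnum.Fi22.g i) ∈ D := by
    intro i hi
    interval_cases i <;>
    · show PresentedGroup.toGroup hrel (PresentedGroup.of _) ∈ D
      rw [PresentedGroup.toGroup.of]
      exact H.mem _
  haveI := CfsgLib.CosetEnum.Fi22.Simple.isSimple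
  have hinj : Function.Injective φ := by
    rw [← MonoidHom.ker_eq_bot_iff]
    refine (IsSimpleGroup.eq_bot_or_eq_top_of_normal _ inferInstance).resolve_right fun htop => ?_
    have hmem := hgen 0 (by norm_num)
    rw [show φ (CfsgLib.CosetEnum.Fi22.g 0) = 1 from
      MonoidHom.mem_ker.1 (htop ▸ mem_top _)] at hmem
    have := hset.1 1 hmem
    simp at this
  haveI := CfsgLib.CosetEnum.Fi22.finite
  have hcard : Nat.card Cfsg.Spor.Fi22 = Nat.card G := by
    rw [CfsgLib.CosetEnum.Fi22.card_group, CfsgLib.FischerOrder.card_group S h]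
  exact ⟨MulEquiv.ofBijective φ ((Nat.bijective_iff_injective_and_card _).2 ⟨hinj, hcard⟩), hgen⟩

/-- A group of type M(22) is the Fischer group. -/
theorem nonempty_iso (S : Setting D) (h : Cfsg.IsOfTypeM22 G D) :
    Nonempty (G ≃* Cfsg.Spor.Fi22) :=
  let ⟨φ, _⟩ := exists_iso S h
  ⟨φ.symm⟩

/-- Two groups of type M(22) are isomorphic with their classes. -/
theorem exists_class_iso {G' : Type*} [Group G'] [Finite G'] {D' : Set G'} (S : Setting D)
    (h : Cfsg.IsOfTypeM22 G D) (S' : Setting D') (h' : Cfsg.IsOfTypeM22 G' D') :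
    ∃ e : G ≃* G', e '' D = D' := by
  obtain ⟨φ, hφ⟩ := exists_iso S h
  obtain ⟨ψ, hψ⟩ := exists_iso S' h'
  refine ⟨φ.symm.trans ψ, Set.Subset.antisymm ?_ fun y hy => ?_⟩
  · rintro _ ⟨y, hy, rfl⟩
    obtain ⟨k, rfl⟩ := CfsgLib.ThreeTransp.class_conj S.cls (hφ 0 (by norm_num)) hy
    simp only [map_mul, map_inv, MulEquiv.trans_apply, MulEquiv.symm_apply_apply]
    exact CfsgLib.ThreeTransp.class_conj_mem S'.cls _ (hψ 0 (by norm_num))
  · obtain ⟨k, rfl⟩ := CfsgLib.ThreeTransp.class_conj S'.cls (hψ 0 (by norm_num)) hy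
    refine ⟨φ (ψ.symm k) * φ (CfsgLib.CosetEnum.Fi22.g 0) * (φ (ψ.symm k))⁻¹,
      CfsgLib.ThreeTransp.class_conj_mem S.cls _ (hφ 0 (by norm_num)), ?_⟩
    simp [map_mul, map_inv, MulEquiv.trans_apply]

end CfsgLib.FischerFi22
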