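import Cfsg.Agent.Lib.CosetEnum.LetterCert
import Cfsg.Agent.Lib.CosetEnum.Table

set_option autoImplicit false

/-! A word fixing the first coset of a checked table lies in the subgroup. -/

namespace CfsgLib.FischerFi22

open CfsgLib.CosetEnum

theorem prod_mem_of_scan {X : Type*} [Group X] {g : ℕ → X} {ip nl : ℕ} (h15 : g 15 = 1)
    (hinv : ∀ x < 16, g (linv ip x) = (g x)⁻¹) (H : Subgroup X)
    (c : Letters.Cert) {sub ls : List (List ℕ)} (hc : c.check ip nl sub ls = true)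
    (hls : ∀ l ∈ ls, (∀ x ∈ l, x < 16) ∧ (l.map g).prod = 1)
    (hsub : ∀ l ∈ sub, (∀ x ∈ l, x < 16) ∧ (l.map g).prod ∈ H)
    {w : List ℕ} (hw : ∀ x ∈ w, x < nl) (hscan : Nat.beq (scan c.T w 0) 0 = true) :
    (w.map g).prod ∈ H := by
  simp only [Letters.Cert.check, Bool.and_eq_true] at hc
  obtain ⟨⟨⟨⟨⟨⟨⟨⟨⟨⟨hT, hn⟩, hnl⟩, hWf⟩, hWe⟩, hSf⟩, hSe⟩, hnf⟩, hch⟩, hL⟩, hrows⟩ := hc
  have hT := Nat.eq_of_beq_eq_true hT
  have hnl := Nat.le_of_ble_eq_true hnl
  have hn : 0 < c.n := Nat.le_of_ble_eq_true hn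
  have hW := words_ok h15 hinv nl hnl ls hls c.W c.wb 16 hWf hWe
  have hS := subs_ok h15 hinv H sub hsub c.S c.wb 16 hSf hSe
  have hfacts := holds_of_checked (H := H) h15 hinv c.F c.W c.wb c.S c.N c.nf hW hS
    (fun i hi => Letters.checkChunks_spec ip c _ 0 hch i (Nat.zero_le _)
      (by rw [← Letters.total_eq, Nat.eq_of_beq_eq_true hnf]; omega))
  have step : ∀ k < c.n, ∀ x < nl, act c.T x k < c.n ∧
      rep g c.F (c.L.get 20 k) * g x * (rep g c.F (c.L.get 20 (act c.T x k)))⁻¹ ∈ H := by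
    intro k hk x hx
    have hxl : x < c.T.length := hT.symm ▸ hx
    have he := checkRow_spec c.F ip c.L c.E c.n nl c.nf k c.T 0
      (allFrom_spec _ _ _ hrows k (Nat.zero_le _) (by omega)) x hxl
    rw [Nat.zero_add] at he
    unfold checkEntry at he
    simp only [strict_eq, Bool.and_eq_true] at he
    obtain ⟨hk', hf, he⟩ := he
    rw [act_eq, dif_pos hxl]
    set f := (c.E.get 24 (k * nl + x) - 1) >>> 1
    have hD := hfacts f (Nat.le_of_ble_eq_true hf)
    refine ⟨Nat.le_of_ble_eq_true hk', ?_⟩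
    show Holds g H (rep g c.F) (c.L.get 20 k) x (c.L.get 20 ((c.T[x]).get 20 k))
    rcases hd : Nat.beq ((c.E.get 24 (k * nl + x) - 1) &&& 1) 0 with _ | _
    · rw [hd] at he
      simp only [Bool.and_eq_true] at he
      obtain ⟨⟨h1, h2⟩, h3⟩ := he
      have := hD.symm hinv (fX_lt _)
      rwa [Nat.eq_of_beq_eq_true h1, Nat.eq_of_beq_eq_true h2, Nat.eq_of_beq_eq_true h3] at this
    · rw [hd] at he
      simp only [Bool.and_eq_true] at he
      obtain ⟨⟨h1, h2⟩, h3⟩ := he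
      rwa [Nat.eq_of_beq_eq_true h1, Nat.eq_of_beq_eq_true h2, Nat.eq_of_beq_eq_true h3] at hD
  have walk : ∀ w : List ℕ, (∀ x ∈ w, x < nl) → ∀ k < c.n, scan c.T w k < c.n ∧
      rep g c.F (c.L.get 20 k) * (w.map g).prod *
        (rep g c.F (c.L.get 20 (scan c.T w k)))⁻¹ ∈ H := by
    intro w
    induction w with
    | nil => exact fun _ k hk => ⟨by rwa [scan_nil], by simp [scan_nil, H.one_mem]⟩
    | cons x w ih =>
      intro hw k hk
      obtain ⟨hk', h1⟩ := step k hk x (hw x (by simp))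
      obtain ⟨hk'', h2⟩ := ih (fun y hy => hw y (List.mem_cons_of_mem _ hy)) _ hk'
      refine ⟨by rw [scan_cons]; exact hk'', ?_⟩
      have := H.mul_mem h1 h2
      rw [scan_cons, List.map_cons, List.prod_cons]
      simpa [mul_assoc] using this
  obtain ⟨-, h⟩ := walk w hw 0 hn
  rw [Nat.eq_of_beq_eq_true hscan, Nat.eq_of_beq_eq_true hL, rep] at h
  simpa using h

end CfsgLib.FischerFi22
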