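import Cfsg.Agent.Lib.FischerFi22.Uni

set_option autoImplicit false

/-! The size of a link and of a clique in it. -/

namespace CfsgLib.FischerFi22

open CfsgLib.Classical.Herm HermSpace
open CfsgLib.ThreeTrans (link)

universe u

variable {G : Type u} [Group G] {F : Type} [Field F] [Fintype F] {hF : Fintype.card F = 2 ^ 2}
  {D : Set G} {a : G} {P : (Fin 6 → F) → G → Prop}

theorem card_isotropic (hF : Fintype.card F = 2 ^ 2) :
    Nat.card {v : Fin 6 → F // (stdHerm hF 6).h v v = 0} = 2080 := by
  have e : Nat.card {v : Fin 6 → F // (stdHerm hF 6).h v v = 0} = levelCount 6 F 2 0 :=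
    Nat.card_congr (Equiv.subtypeEquivRight fun v => by rw [stdHerm_h])
  have h := levelCount_zero_formula hF 6
  rw [e]
  have h2 : (2 : ℤ) * (levelCount 6 F 2 0 : ℤ) = 4160 := by
    push_cast at h
    linear_combination h
  omega

theorem ptCount_le (U : Uni hF D a P) (A : Set G) (hA : A ⊆ link D a) (V : Set (Fin 6 → F))
    (hV : ∀ x ∈ A, ∀ v, P v x → v ∈ V) : Nat.card A * 3 + 1 ≤ Nat.card ↥(insert 0 V) := by
  classical
  choose v hv using fun x : A => U.surj x (hA x.2)
  let Φ : Option (A × Fˣ) → ↥(insert (0 : Fin 6 → F) V) := fun o =>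
    match o with
    | none => ⟨0, Set.mem_insert _ _⟩
    | some p => ⟨(p.2 : F) • v p.1,
        Set.mem_insert_of_mem _ (hV _ p.1.2 _ (U.smul (hv p.1) p.2.ne_zero))⟩
  have hinj : Function.Injective Φ := by
    intro o o' h
    have h := congrArg Subtype.val h
    match o, o' with
    | none, none => rfl
    | none, some p => exact absurd h.symm (smul_ne_zero p.2.ne_zero (U.ne (hv p.1)))
    | some p, none => exact absurd h (smul_ne_zero p.2.ne_zero (U.ne (hv p.1)))
    | some p, some q =>
      have h : (p.2 : F) • v p.1 = (q.2 : F) • v q.1 := h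
      have hp : p.1 = q.1 := Subtype.ext (U.inj (U.smul (hv p.1) p.2.ne_zero)
        (h ▸ U.smul (hv q.1) q.2.ne_zero))
      rw [hp] at h
      exact congrArg some (Prod.ext hp (Units.ext (smul_left_injective F (U.ne (hv q.1)) h)))
  have hA' : Finite A := by
    refine Finite.of_injective (fun x : A => Φ (some (x, 1))) fun x y h => ?_
    exact (Prod.ext_iff.1 (Option.some_injective _ (hinj h))).1
  have := Nat.card_le_card_of_injective Φ hinj
  rw [Finite.card_option, Nat.card_prod, Nat.card_units, Nat.card_eq_fintype_card (α := F), hF] at this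
  simpa using this

theorem Uni.card_link_le (U : Uni hF D a P) : Nat.card (link D a) ≤ 693 := by
  have h := ptCount_le U (link D a) le_rfl {v | (stdHerm hF 6).h v v = 0} fun x _ v hv => U.iso hv
  rw [Set.insert_eq_of_mem (show (0 : Fin 6 → F) ∈ {v | (stdHerm hF 6).h v v = 0} from
    (stdHerm hF 6).zero_left 0)] at h
  have := h.trans (card_isotropic hF).le
  omega

theorem Uni.link_finite (U : Uni hF D a P) : (link D a).Finite := by
  rw [← Set.finite_coe_iff]
  choose v hv using fun x : link D a => U.surj x x.2
  exact Finite.of_injective v fun x y h => Subtype.ext (U.inj (hv x) (h ▸ hv y))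

end CfsgLib.FischerFi22
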