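import Cfsg.Agent.Lib.FischerFi22.ReflGeom

set_option autoImplicit false

/-! A set of involutions whose commuting graph is that of the reflections of one norm. -/

namespace CfsgLib.FischerFi22

open QuadraticMap (polar)

universe u

variable {G : Type u} [Group G]

/-- `P v x` says that the member `x` of `S` belongs to the vector `v` of norm `c`. -/
structure Refl (Q : QuadraticForm (ZMod 3) (Fin 6 → ZMod 3)) (c : ZMod 3) (S : Set G)
    (P : (Fin 6 → ZMod 3) → G → Prop) : Prop where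
  c_ne : c ≠ 0
  nd : (QuadraticMap.polarBilin Q).Nondegenerate
  frame : ∃ w : Fin 6 → Fin 6 → ZMod 3, OrthSys Q c (fun _ => 1) w
  mem : ∀ {v x}, P v x → x ∈ S
  norm : ∀ {v x}, P v x → Q v = c
  neg : ∀ {v x}, P v x → P (-v) x
  surj : ∀ x ∈ S, ∃ v, P v x
  exists_pt : ∀ v, Q v = c → ∃ x, P v x
  comm : ∀ {v w x y}, P v x → P w y → (Commute x y ↔ polar (⇑Q) v w = 0 ∨ v = w ∨ v = -w)

/-- The diagram of a path with six nodes. -/
def pathAdj (i j : Fin 6) : ZMod 3 :=
  if i.val + 1 = j.val ∨ j.val + 1 = i.val then 1 else 0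

/-- The diagram of a path with four nodes and a path with two nodes. -/
def splitAdj (i j : Fin 6) : ZMod 3 :=
  if (i.val + 1 = j.val ∧ i.val ≠ 3) ∨ (j.val + 1 = i.val ∧ j.val ≠ 3) then 1 else 0

/-- The Gram form of six roots with the given diagram, divided by `c`. -/
def rootForm (A : Fin 6 → Fin 6 → ZMod 3) (x y : Fin 6 → ZMod 3) : ZMod 3 :=
  ∑ i, ∑ j, x i * y j * (if i = j then 2 else A i j)

/-- The commuting criterion in root coordinates. -/
def crit (A : Fin 6 → Fin 6 → ZMod 3) (x y : Fin 6 → ZMod 3) : Prop :=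
  rootForm A x y = 0 ∨ x = y ∨ x = -y

instance (A : Fin 6 → Fin 6 → ZMod 3) (x y : Fin 6 → ZMod 3) : Decidable (crit A x y) := by
  unfold crit; infer_instance

variable {Q : QuadraticForm (ZMod 3) (Fin 6 → ZMod 3)} {c : ZMod 3} {S : Set G}
  {P : (Fin 6 → ZMod 3) → G → Prop} {A : Fin 6 → Fin 6 → ZMod 3}

/-- Vectors of six members with a diagram inside a path, with normalised signs. -/
theorem Refl.gram (R : Refl Q c S P) (hA : A = pathAdj ∨ A = splitAdj) {x : Fin 6 → G}
    (hx : ∀ i, x i ∈ S) (hpat : ∀ i j, i ≠ j → (Commute (x i) (x j) ↔ A i j = 0)) :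
    ∃ v : Fin 6 → Fin 6 → ZMod 3, (∀ i, P (v i) (x i)) ∧
      ∀ i j, polar (⇑Q) (v i) (v j) = c * (if i = j then 2 else A i j) := by
  have hsym : ∀ i j, A i j = A j i := by rcases hA with rfl | rfl <;> decide
  have hwit : ∀ i j, i ≠ j → A i j = 0 → ∃ k, k ≠ i ∧ k ≠ j ∧ A i k ≠ A j k := by
    rcases hA with rfl | rfl <;> decide
  have h01 : ∀ i j, A i j = 0 ∨ A i j = 1 := by rcases hA with rfl | rfl <;> decide
  have hfar : ∀ i j : Fin 6, A i j ≠ 0 → i.val + 1 = j.val ∨ j.val + 1 = i.val := by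
    rcases hA with rfl | rfl <;> decide
  have hzero : ∀ i j v w, i ≠ j → A i j = 0 → P v (x i) → P w (x j) → polar (⇑Q) v w = 0 := by
    intro i j v w hij h0 hv hw
    refine ((R.comm hv hw).1 ((hpat i j hij).2 h0)).resolve_right fun he => ?_
    obtain ⟨k, hki, hkj, hk⟩ := hwit i j hij h0
    obtain ⟨u, hu⟩ := R.surj _ (hx k)
    have hsame : Commute (x i) (x k) ↔ Commute (x j) (x k) := by
      rcases he with rfl | rfl
      · exact (R.comm hv hu).trans (R.comm hw hu).symm
      · rw [R.comm hv hu, R.comm hw hu, QuadraticMap.polar_neg_left, neg_eq_zero, neg_inj,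
          neg_eq_iff_eq_neg, or_comm (a := w = u)]
    rw [hpat i k hki.symm, hpat j k hkj.symm] at hsame
    rcases h01 i k with h1 | h1 <;> rcases h01 j k with h2 | h2 <;>
      simp [h1, h2] at hk hsame
  have step : ∀ i j v, i ≠ j → P v (x i) → ∃ w, P w (x j) ∧ polar (⇑Q) v w = c * A i j := by
    intro i j v hij hv
    obtain ⟨w, hw⟩ := R.surj _ (hx j)
    rcases h01 i j with h0 | h1
    · exact ⟨w, hw, by rw [h0, mul_zero, hzero i j v w hij h0 hv hw]⟩
    · have hp : polar (⇑Q) v w ≠ 0 := fun hp =>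
        one_ne_zero (h1.symm.trans ((hpat i j hij).1 ((R.comm hv hw).2 (Or.inl hp))))
      have key : ∀ c p : ZMod 3, c ≠ 0 → p ≠ 0 → p = c * 1 ∨ -p = c * 1 := by decide
      rcases key c _ R.c_ne hp with h | h
      · exact ⟨w, hw, by rw [h1, h]⟩
      · exact ⟨-w, R.neg hw, by rw [QuadraticMap.polar_neg_right, h1, h]⟩
  obtain ⟨v₀, h₀⟩ := R.surj _ (hx 0)
  obtain ⟨v₁, h₁, e₁⟩ := step 0 1 v₀ (by decide) h₀
  obtain ⟨v₂, h₂, e₂⟩ := step 1 2 v₁ (by decide) h₁
  obtain ⟨v₃, h₃, e₃⟩ := step 2 3 v₂ (by decide) h₂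
  obtain ⟨v₄, h₄, e₄⟩ := step 3 4 v₃ (by decide) h₃
  obtain ⟨v₅, h₅, e₅⟩ := step 4 5 v₄ (by decide) h₄
  have hP : ∀ i, P (![v₀, v₁, v₂, v₃, v₄, v₅] i) (x i) := fun i => by
    fin_cases i <;> assumption
  refine ⟨_, hP, fun i j => ?_⟩
  split_ifs with hij
  · subst hij
    rw [polar_self3, R.norm (hP i)]; ring
  by_cases h0 : A i j = 0
  · rw [h0, mul_zero, hzero i j _ _ hij h0 (hP i) (hP j)]
  · have key : ∀ i j : Fin 6, i.val + 1 = j.val →
        polar (⇑Q) (![v₀, v₁, v₂, v₃, v₄, v₅] i) (![v₀, v₁, v₂, v₃, v₄, v₅] j) = c * A i j := by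
      intro i j h
      fin_cases i <;> fin_cases j <;> first | assumption | simp at h
    rcases hfar i j h0 with h | h
    · exact key i j h
    · rw [QuadraticMap.polar_comm, hsym i j]; exact key j i h

theorem polar_comb_root {v : Fin 6 → Fin 6 → ZMod 3}
    (hv : ∀ i j, polar (⇑Q) (v i) (v j) = c * (if i = j then 2 else A i j))
    (x y : Fin 6 → ZMod 3) : polar (⇑Q) (comb v x) (comb v y) = c * rootForm A x y := by
  show QuadraticMap.polarBilin Q (∑ i, x i • v i) (∑ j, y j • v j) = _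
  simp only [map_sum, map_smul, LinearMap.sum_apply, LinearMap.smul_apply, smul_eq_mul,
    QuadraticMap.polarBilin_apply_apply, hv, rootForm, Finset.mul_sum]
  rw [Finset.sum_comm]
  exact Finset.sum_congr rfl fun i _ => Finset.sum_congr rfl fun j _ => by ring

set_option maxRecDepth 100000 in
theorem path_kernel : ∀ x : Fin 6 → ZMod 3,
    (∀ i, rootForm pathAdj x (Pi.single i 1) = 0) → x = 0 := by decide +kernel

set_option maxRecDepth 100000 in
theorem split_kernel : ∀ x : Fin 6 → ZMod 3, (∀ i, rootForm splitAdj x (Pi.single i 1) = 0) →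
    x = 0 ∨ x = ![0, 0, 0, 0, 1, 1] ∨ x = -![0, 0, 0, 0, 1, 1] := by decide +kernel

/-- The members with given commuting behaviour towards a path of six members. -/
theorem Refl.no_member (R : Refl Q c S P) {x : Fin 6 → G} (hx : ∀ i, x i ∈ S)
    (hpat : ∀ i j, i ≠ j → (Commute (x i) (x j) ↔ pathAdj i j = 0))
    (C N : List (Fin 6)) (hCN : ∀ y : Fin 6 → ZMod 3, 2 * rootForm pathAdj y y = 1 →
      (∀ i ∈ C, crit pathAdj y (Pi.single i 1)) → (∀ i ∈ N, ¬ crit pathAdj y (Pi.single i 1)) →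
      False)
    {z : G} (hz : z ∈ S) (hC : ∀ i ∈ C, Commute z (x i)) (hN : ∀ i ∈ N, ¬ Commute z (x i)) :
    False := by
  obtain ⟨v, hv, hg⟩ := R.gram (Or.inl rfl) hx hpat
  have hinj : Function.Injective (comb v) := by
    intro y y' he
    refine sub_eq_zero.1 (path_kernel _ fun i => ?_)
    have h0 : comb v (y - y') = 0 := by
      rw [sub_eq_add_neg, comb_add, comb_neg, he, add_neg_cancel]
    have h := polar_comb_root hg (y - y') (Pi.single i 1)
    rw [h0, QuadraticMap.polar_zero_left] at h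
    exact (mul_eq_zero.1 h.symm).resolve_left R.c_ne
  obtain ⟨w, hw⟩ := R.surj z hz
  obtain ⟨y, rfl⟩ := Finite.injective_iff_surjective.1 hinj w
  have hcrit : ∀ i, Commute z (x i) ↔ crit pathAdj y (Pi.single i 1) := fun i => by
    rw [R.comm hw (hv i), ← comb_single v i, polar_comb_root hg, mul_eq_zero,
      or_iff_right R.c_ne, ← comb_neg, hinj.eq_iff, hinj.eq_iff, crit]
  refine hCN y ?_ (fun i hi => (hcrit i).1 (hC i hi)) (fun i hi => fun h => hN i hi ((hcrit i).2 h))
  have hn := R.norm hw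
  rw [Q_eq_of_polar, polar_comb_root hg] at hn
  exact mul_left_cancel₀ R.c_ne (by rw [mul_one]; linear_combination hn)

set_option maxRecDepth 100000 in
theorem path_no_fifth : ∀ y : Fin 6 → ZMod 3, 2 * rootForm pathAdj y y = 1 →
    (∀ i ∈ [0, 1, 3, 4, 5], crit pathAdj y (Pi.single i 1)) →
    (∀ i ∈ [2], ¬ crit pathAdj y (Pi.single i 1)) → False := by decide +kernel

set_option maxRecDepth 100000 in
theorem path_no_end : ∀ y : Fin 6 → ZMod 3, 2 * rootForm pathAdj y y = 1 →
    (∀ i ∈ [1, 2, 3, 4, 5], crit pathAdj y (Pi.single i 1)) →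
    (∀ i ∈ [0], ¬ crit pathAdj y (Pi.single i 1)) → False := by decide +kernel

set_option maxRecDepth 100000 in
theorem path_no_perp : ∀ y : Fin 6 → ZMod 3, 2 * rootForm pathAdj y y = 1 →
    (∀ i ∈ [0, 1, 2, 3, 4], crit pathAdj y (Pi.single i 1)) →
    (∀ i ∈ ([] : List (Fin 6)), ¬ crit pathAdj y (Pi.single i 1)) → False := by decide +kernel

/-- No six members form a path of four and a path of two. -/
theorem Refl.no_split (R : Refl Q c S P) {x : Fin 6 → G} (hx : ∀ i, x i ∈ S)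
    (hpat : ∀ i j, i ≠ j → (Commute (x i) (x j) ↔ splitAdj i j = 0)) : False := by
  obtain ⟨v, hv, hg⟩ := R.gram (Or.inr rfl) hx hpat
  set u := comb v ![0, 0, 0, 0, 1, 1] with hu
  have hu0 : u ≠ 0 := by
    intro h0
    have h4 : v 4 = -v 5 := by
      rw [← add_eq_zero_iff_eq_neg, ← h0]
      simp [hu, comb, Fin.sum_univ_six]
    have := (hpat 4 5 (by decide)).1 ((R.comm (hv 4) (hv 5)).2 (Or.inr (Or.inr h4)))
    revert this; decide
  have hinj : Function.Injective (comb v) := by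
    intro y y' he
    have h0 : comb v (y - y') = 0 := by
      rw [sub_eq_add_neg, comb_add, comb_neg, he, add_neg_cancel]
    rcases split_kernel (y - y') (fun i => by
      have h := polar_comb_root hg (y - y') (Pi.single i 1)
      rw [h0, QuadraticMap.polar_zero_left] at h
      exact (mul_eq_zero.1 h.symm).resolve_left R.c_ne) with h | h | h
    · exact sub_eq_zero.1 h
    · exact absurd (by rw [hu, ← h, h0]) hu0
    · exact absurd (by rw [hu, ← neg_eq_iff_eq_neg.2 h, comb_neg, h0, neg_zero]) hu0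
  refine hu0 (CfsgLib.OrthSpinor.eq_zero_of_polar R.nd fun z => ?_)
  obtain ⟨y, rfl⟩ := Finite.injective_iff_surjective.1 hinj z
  rw [hu, polar_comb_root hg]
  have : ∀ y : Fin 6 → ZMod 3, rootForm splitAdj ![0, 0, 0, 0, 1, 1] y = 0 := by
    intro y
    simp [rootForm, splitAdj, Fin.sum_univ_six]
    have h3 : (3 : ZMod 3) = 0 := by decide
    linear_combination (y 4 + y 5) * h3
  rw [this, mul_zero]

/-- The vectors of a path of six roots in an orthonormal frame. -/
def pathVec : Fin 6 → Fin 6 → ZMod 3 :=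
  ![![0, 0, 0, 0, 0, 1], ![0, 0, 1, 1, 1, 1], ![0, 0, 0, 0, 1, 0], ![0, 1, 1, 1, 1, 0],
    ![1, 1, 1, 2, 0, 0], ![1, 0, 0, 0, 0, 0]]

theorem pathVec_spec : (∀ i, 2 * diagPolar (fun _ => 1) (pathVec i) (pathVec i) = 1) ∧
    ∀ i j, i ≠ j → ((diagPolar (fun _ => 1) (pathVec i) (pathVec j) = 0 ∨ pathVec i = pathVec j ∨
      pathVec i = -pathVec j) ↔ pathAdj i j = 0) := by decide +kernel

/-- There is a path of six members. -/
theorem Refl.exists_path (R : Refl Q c S P) :
    ∃ x : Fin 6 → G, (∀ i, x i ∈ S) ∧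
      ∀ i j, i ≠ j → (Commute (x i) (x j) ↔ pathAdj i j = 0) := by
  obtain ⟨w, hw⟩ := R.frame
  have hinj := hw.comb_injective R.c_ne fun _ => one_ne_zero
  choose x hx using fun i => R.exists_pt (comb w (pathVec i))
    (by rw [hw.Q_comb, pathVec_spec.1 i, mul_one])
  refine ⟨x, fun i => R.mem (hx i), fun i j hij => ?_⟩
  rw [R.comm (hx i) (hx j), hw.polar_comb_comb, mul_eq_zero, or_iff_right R.c_ne, ← comb_neg,
    hinj.eq_iff, hinj.eq_iff]
  exact pathVec_spec.2 i j hij

end CfsgLib.FischerFi22
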