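import Cfsg.Agent.Lib.FischerFi22.ReflFrame
import Cfsg.Agent.Lib.FischerFi22.ReflPath
import Cfsg.Agent.Lib.ThreeTrans.Fischer

set_option autoImplicit false

/-! A generating set of 3-transpositions of a central cover of the projective reflection group
corresponds to the reflections. -/

namespace CfsgLib.FischerFi22

open QuadraticMap (polar)
open Subgroup
open CfsgLib.OrthSpinor (act act_mul act_one ext_act reflection conj_reflection act_reflection_self
  reflection_mul_self act_inv_act)
open CfsgLib.ThreeTrans (mul_self inv_eq commute_conj_iff' cube_eq_one)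

universe u

variable {G : Type u} [Group G] {D S : Set G}

theorem commute_of_mk (hset : Cfsg.IsThreeTranspositionSet D) (hSD : S ⊆ D) {x y : G} (hx : x ∈ S)
    (hy : y ∈ S)
    (h : Commute (QuotientGroup.mk ⟨x, subset_closure hx⟩ : ↥(closure S) ⧸ center ↥(closure S))
      (QuotientGroup.mk ⟨y, subset_closure hy⟩)) : Commute x y := by
  by_contra hnc
  set a : ↥(closure S) := ⟨x, subset_closure hx⟩ with ha
  set b : ↥(closure S) := ⟨y, subset_closure hy⟩ with hb
  have h1 : (a * b) * (b * a)⁻¹ ∈ center ↥(closure S) := by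
    rw [← QuotientGroup.eq_one_iff, QuotientGroup.mk_mul, QuotientGroup.mk_inv,
      mul_inv_eq_one, QuotientGroup.mk_mul, QuotientGroup.mk_mul]
    exact h.eq
  have hba : (b * a)⁻¹ = a * b := Subtype.ext (by
    simp [ha, hb, inv_eq hset (hSD hx), inv_eq hset (hSD hy)])
  rw [hba] at h1
  have h3 : (a * b) ^ 3 = 1 := Subtype.ext (cube_eq_one hset (hSD hx) (hSD hy) hnc)
  have h4 : a * b ∈ center ↥(closure S) := by
    have h5 : (a * b * (a * b))⁻¹ = a * b :=
      inv_eq_of_mul_eq_one_right (by rw [← h3, pow_succ, pow_two])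
    rw [← h5]
    exact inv_mem h1
  refine hnc ?_
  have h6 : (x * y) * x = x * (x * y) := congrArg Subtype.val (mem_center_iff.1 h4 a).symm
  rw [← mul_assoc, mul_self hset (hSD hx), one_mul] at h6
  calc x * y = x * ((x * y) * x) := by rw [h6]
    _ = (x * x) * (y * x) := by simp only [mul_assoc]
    _ = y * x := by rw [mul_self hset (hSD hx), one_mul]

/-- The members of `S` that do not commute with all of `S`. -/
def nonCentral (S : Set G) : Set G := {x ∈ S | ∃ y ∈ S, ¬ Commute x y}

set_option maxHeartbeats 2000000 in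
theorem exists_refl_nonCentral (hset : Cfsg.IsThreeTranspositionSet D) (hSD : S ⊆ D)
    (hconj : ∀ k ∈ closure S, ∀ x ∈ S, k * x * k⁻¹ ∈ S) {μ c : ZMod 3} (hμ : μ = 1) (hc : c ≠ 0)
    (h : Cfsg.IsProjReflectionGroupModThree (↥(closure S) ⧸ center ↥(closure S)) 6 μ c) :
    ∃ (Q : QuadraticForm (ZMod 3) (Fin 6 → ZMod 3)) (P : (Fin 6 → ZMod 3) → G → Prop),
      Refl Q c (nonCentral S) P := by
  subst hμ
  obtain ⟨Q, hQ, hdet, ⟨e⟩⟩ := h
  obtain ⟨w, hw⟩ := exists_frame hQ hc hdet
  obtain ⟨m, hmR, hm⟩ := exists_negOne hw hc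
  set R := Cfsg.reflectionSubgroup (⇑Q) c with hR
  have hscal : ∀ z : R, z ∈ center ↥R ↔ (z : OGroup Q) = 1 ∨ (z : OGroup Q) = m := by
    intro z
    constructor
    · intro hz
      rcases center_scalar hw hc (z := (z : OGroup Q))
        (fun v hv => congrArg Subtype.val (mem_center_iff.1 hz ⟨refl hc hv, refl_mem hc hv⟩).symm)
        with h | h
      · exact Or.inl (ext_act Q fun x => by rw [h, act_one])
      · exact Or.inr (ext_act Q fun x => by rw [h, hm])
    · intro hz
      refine mem_center_iff.2 fun y => Subtype.ext (ext_act Q fun x => ?_)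
      rcases hz with hz | hz
      · simp [hz]
      · simp only [Subgroup.coe_mul, act_mul, hz, hm]
        exact CfsgLib.OrthSpinor.act_neg Q _ _
  set r : ∀ v : Fin 6 → ZMod 3, Q v = c → ↥R := fun v hv => ⟨refl hc hv, refl_mem hc hv⟩ with hr
  have hkk : ∀ k : ↥(closure S), ∀ {x : G} (hx : x ∈ S),
      (QuotientGroup.mk ⟨_, subset_closure (hconj k k.2 x hx)⟩ :
        ↥(closure S) ⧸ center ↥(closure S)) =
      QuotientGroup.mk k * QuotientGroup.mk ⟨x, subset_closure hx⟩ * (QuotientGroup.mk k)⁻¹ := by
    intro k x hx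
    show QuotientGroup.mk' _ _ = QuotientGroup.mk' _ k * QuotientGroup.mk' _ _ *
      (QuotientGroup.mk' _ k)⁻¹
    rw [← map_mul, ← map_inv, ← map_mul]
    exact congrArg (QuotientGroup.mk' _) (Subtype.ext rfl)
  -- every non-central member is a reflection
  have hto : ∀ x (hx : x ∈ nonCentral S), ∃ v, ∃ hv : Q v = c,
      e (QuotientGroup.mk ⟨x, subset_closure hx.1⟩) = QuotientGroup.mk (r v hv) := by
    intro x hx
    set q : ↥(closure S) := ⟨x, subset_closure hx.1⟩ with hq
    obtain ⟨g, hg⟩ := QuotientGroup.mk_surjective (e (QuotientGroup.mk q))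
    have hx2 : (QuotientGroup.mk q : ↥(closure S) ⧸ center ↥(closure S)) * QuotientGroup.mk q = 1 := by
      rw [← QuotientGroup.mk_mul, ← QuotientGroup.mk_one]
      exact congrArg _ (Subtype.ext (mul_self hset (hSD hx.1)))
    have hgg : g * g ∈ center ↥R := by
      rw [← QuotientGroup.eq_one_iff, QuotientGroup.mk_mul, hg, ← map_mul, hx2, map_one]
    have hsq : (∀ y, act Q (g : OGroup Q) (act Q (g : OGroup Q) y) = y) ∨
        ∀ y, act Q (g : OGroup Q) (act Q (g : OGroup Q) y) = -y := by
      rcases (hscal _).1 hgg with h1 | h1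
      · exact Or.inl fun y => by rw [← act_mul, ← Subgroup.coe_mul, h1, act_one]
      · exact Or.inr fun y => by rw [← act_mul, ← Subgroup.coe_mul, h1, hm]
    have hsmall : SmallDisp hc (g : OGroup Q) := by
      intro v v' hv hv'
      set K : ↥R := r v hv * r v' hv' with hK
      obtain ⟨kk, hkk'⟩ := QuotientGroup.mk_surjective (e.symm (QuotientGroup.mk K))
      have hy := hconj kk kk.2 x hx.1
      have hM : (QuotientGroup.mk (g * K * g⁻¹ * K⁻¹) : ↥R ⧸ center ↥R) =
          e (QuotientGroup.mk q * QuotientGroup.mk ⟨_, subset_closure hy⟩) := by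
        have hqi : (QuotientGroup.mk q : ↥(closure S) ⧸ center ↥(closure S))⁻¹ = QuotientGroup.mk q :=
          inv_eq_of_mul_eq_one_left hx2
        rw [hkk kk hx.1, hkk', map_mul, map_mul, map_mul, map_inv, e.apply_symm_apply]
        have hgi : (QuotientGroup.mk g : ↥R ⧸ center ↥R)⁻¹ = QuotientGroup.mk g :=
          inv_eq_of_mul_eq_one_left (by rw [hg, ← map_mul, hx2, map_one])
        show _ = e (QuotientGroup.mk q) * (_ * e (QuotientGroup.mk q) * _)
        rw [← hg, QuotientGroup.mk_mul, QuotientGroup.mk_mul, QuotientGroup.mk_mul,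
          QuotientGroup.mk_inv, QuotientGroup.mk_inv, hgi]
        simp only [mul_assoc]
        rfl
      have hpow : ∀ n : ℕ, (x * (↑kk * x * (↑kk)⁻¹)) ^ n = 1 →
          (g * K * g⁻¹ * K⁻¹) ^ n ∈ center ↥R := by
        intro n hn
        rw [← QuotientGroup.eq_one_iff, QuotientGroup.mk_pow, hM, ← map_pow, ← QuotientGroup.mk_mul,
          ← QuotientGroup.mk_pow, show (q * ⟨_, subset_closure hy⟩) ^ n = 1 from Subtype.ext hn,
          QuotientGroup.mk_one, map_one]
      rcases hset.2 x (hSD hx.1) _ (hSD hy) with h2 | h3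
      · rcases (hscal _).1 (hpow 2 h2) with h | h
        · exact Or.inl fun y => by
            rw [show ((g : OGroup Q) * (refl hc hv * refl hc hv') * (g : OGroup Q)⁻¹ *
              (refl hc hv * refl hc hv')⁻¹) ^ 2 = 1 from h, act_one]
        · exact Or.inr (Or.inl fun y => by
            rw [show ((g : OGroup Q) * (refl hc hv * refl hc hv') * (g : OGroup Q)⁻¹ *
              (refl hc hv * refl hc hv')⁻¹) ^ 2 = m from h, hm])
      · rcases (hscal _).1 (hpow 3 h3) with h | h
        · exact Or.inr (Or.inr (Or.inl fun y => by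
            rw [show ((g : OGroup Q) * (refl hc hv * refl hc hv') * (g : OGroup Q)⁻¹ *
              (refl hc hv * refl hc hv')⁻¹) ^ 3 = 1 from h, act_one]))
        · exact Or.inr (Or.inr (Or.inr fun y => by
            rw [show ((g : OGroup Q) * (refl hc hv * refl hc hv') * (g : OGroup Q)⁻¹ *
              (refl hc hv * refl hc hv')⁻¹) ^ 3 = m from h, hm]))
    have hnot : g ∉ center ↥R := by
      intro hgc
      have h1 : (QuotientGroup.mk q : ↥(closure S) ⧸ center ↥(closure S)) = 1 := by
        refine e.injective ?_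
        rw [map_one, ← hg, QuotientGroup.eq_one_iff]
        exact hgc
      obtain ⟨y, hy, hxy⟩ := hx.2
      exact hxy (congrArg Subtype.val
        (mem_center_iff.1 ((QuotientGroup.eq_one_iff _).1 h1) ⟨y, subset_closure hy⟩)).symm
    rcases classify hQ hc hsmall hsq with h | h | ⟨v, hv, hact⟩
    · exact absurd ((hscal g).2 (Or.inl (ext_act Q fun y => by rw [h, act_one]))) hnot
    · exact absurd ((hscal g).2 (Or.inr (ext_act Q fun y => by rw [h, hm]))) hnot
    · have hg' : (g : OGroup Q) = reflection hv ∨ (g : OGroup Q) = m * reflection hv := by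
        rcases hact with h | h
        · exact Or.inl (ext_act Q h)
        · exact Or.inr (ext_act Q fun y => by rw [act_mul, hm, h])
      by_cases hvc : Q v = c
      · refine ⟨v, hvc, ?_⟩
        show e (QuotientGroup.mk q) = QuotientGroup.mk (r v hvc)
        rw [← hg, QuotientGroup.eq, hscal]
        rcases hg' with h | h
        · left
          show (g : OGroup Q)⁻¹ * refl hc hvc = 1
          rw [h]
          exact inv_mul_cancel _
        · right
          show (g : OGroup Q)⁻¹ * refl hc hvc = m
          rw [h, mul_inv_rev, CfsgLib.OrthSpinor.reflection_inv]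
          refine ext_act Q fun y => ?_
          rw [act_mul, act_mul, hm]
          have e1 : ∀ z, act Q m⁻¹ z = -z := fun z => by
            conv_lhs => rw [← neg_neg z, ← hm (-z)]
            rw [act_inv_act]
          rw [e1, CfsgLib.OrthSpinor.act_neg]
          congr 1
          rw [← act_mul, reflection_mul_self, act_one]
      · exfalso
        refine reflection_not_mem hQ hc hv hvc ?_
        rcases hg' with h | h
        · rw [← h]; exact g.2
        · have : reflection hv = m⁻¹ * (g : OGroup Q) := by rw [h, inv_mul_cancel_left]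
          rw [this]
          exact mul_mem (inv_mem hmR) g.2
  -- some member is not central
  have hne : (nonCentral S).Nonempty := by
    by_contra hemp
    have hcom : closure S ≤ centralizer (closure S : Set G) := by
      refine (closure_le _).2 fun x hx => mem_centralizer_iff.2 fun y hy => ?_
      have hle : closure S ≤ centralizer {x} :=
        (closure_le _).2 fun z hz => mem_centralizer_singleton_iff.2 (by
          by_contra hxz
          exact hemp ⟨x, hx, z, hz, fun h => hxz h.eq.symm⟩)
      exact mem_centralizer_singleton_iff.1 (hle hy)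
    have h1 : QuotientGroup.mk (r (w 0) (by rw [hw.norm, mul_one])) = (1 : ↥R ⧸ center ↥R) := by
      obtain ⟨y, hy⟩ := e.surjective (QuotientGroup.mk (r (w 0) (by rw [hw.norm, mul_one])))
      obtain ⟨y, rfl⟩ := QuotientGroup.mk_surjective y
      rw [← hy, (QuotientGroup.eq_one_iff y).2 (mem_center_iff.2 fun z =>
        Subtype.ext (mem_centralizer_iff.1 (hcom y.2) z z.2)), map_one]
    have h2 := (hscal _).1 ((QuotientGroup.eq_one_iff _).1 h1)
    have hcomb := hw.comb_injective hc fun _ => one_ne_zero
    have hQ0 : Q (comb w (unitVec 0)) = c := by rw [unitVec, comb_single, hw.norm, mul_one]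
    have ha := hw.acts_refl hc hQ0 (unitVec 1)
    have hb := hw.acts_refl hc hQ0 (unitVec 0)
    have hrr : refl hc (show Q (w 0) = c by rw [hw.norm, mul_one]) = refl hc hQ0 :=
      CfsgLib.OrthSpinor.reflection_congr (comb_single w 0).symm _
    rcases h2 with h2 | h2
    · have h2' : refl hc hQ0 = 1 := hrr.symm.trans h2
      rw [h2', act_one] at hb
      exact absurd (hcomb hb) (by decide +kernel)
    · have h2' : refl hc hQ0 = m := hrr.symm.trans h2
      rw [h2', hm, ← comb_neg] at ha
      exact absurd (hcomb ha) (by decide +kernel)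
  refine ⟨Q, fun v x => ∃ hx : x ∈ nonCentral S, ∃ hv : Q v = c,
    e (QuotientGroup.mk ⟨x, subset_closure hx.1⟩) = QuotientGroup.mk (r v hv), ?_⟩
  refine
    { c_ne := hc, nd := hQ, frame := ⟨w, hw⟩
      mem := fun ⟨hx, _⟩ => hx
      norm := fun ⟨_, hv, _⟩ => hv
      neg := ?_
      surj := fun x hx => (hto x hx).imp fun v ⟨hv, he⟩ => ⟨hx, hv, he⟩
      exists_pt := ?_
      comm := ?_ }
  · rintro v x ⟨hx, hv, he⟩
    refine ⟨hx, by rw [QuadraticMap.map_neg, hv], he.trans (congrArg _ (Subtype.ext ?_))⟩
    exact (CfsgLib.OrthSpinor.reflection_neg (hv ▸ hc)).symm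
  · intro v hv
    obtain ⟨x₀, hx₀⟩ := hne
    obtain ⟨v₀, hv₀, he₀⟩ := hto x₀ hx₀
    obtain ⟨d, hd, hcl⟩ := (CfsgLib.OrthReflThree.isThreeTranspositionClass (n := 6) (by norm_num) hQ hc).2.1
    have hm1 : r v₀ hv₀ ∈ CfsgLib.OrthReflThree.classInGroup Q c := ⟨v₀, hv₀, rfl⟩
    have hm2 : r v hv ∈ CfsgLib.OrthReflThree.classInGroup Q c := ⟨v, hv, rfl⟩
    rw [hcl] at hm1 hm2
    obtain ⟨k, hk⟩ := isConj_iff.1 ((show IsConj d (r v₀ hv₀) from hm1).symm.trans
      (show IsConj d (r v hv) from hm2))
    obtain ⟨kk, hkk'⟩ := QuotientGroup.mk_surjective (e.symm (QuotientGroup.mk k))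
    obtain ⟨y₀, hy₀, hxy₀⟩ := hx₀.2
    refine ⟨(kk : G) * x₀ * (kk : G)⁻¹, ⟨hconj kk kk.2 x₀ hx₀.1, _, hconj kk kk.2 y₀ hy₀,
      fun h => hxy₀ ((commute_conj_iff' (kk : G) x₀ y₀).1 h)⟩, hv, ?_⟩
    rw [hkk kk hx₀.1, map_mul, map_mul, map_inv, hkk', e.apply_symm_apply, he₀]
    show QuotientGroup.mk' _ k * QuotientGroup.mk' _ (r v₀ hv₀) * (QuotientGroup.mk' _ k)⁻¹ = _
    rw [← map_mul, ← map_inv, ← map_mul, hk]
    rfl
  · rintro v v' x y ⟨hx, hv, he⟩ ⟨hy, hv', he'⟩
    constructor
    · intro hxy
      by_cases hp : polar (⇑Q) v v' = 0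
      · exact Or.inl hp
      refine Or.inr ?_
      have h1 : Commute (QuotientGroup.mk (r v hv) : ↥R ⧸ center ↥R)
          (QuotientGroup.mk (r v' hv')) := by
        rw [← he, ← he']
        exact (Commute.map (show Commute (⟨x, subset_closure hx.1⟩ : ↥(closure S))
          ⟨y, subset_closure hy.1⟩ from Subtype.ext hxy) (QuotientGroup.mk' _)).map e
      have hcube : (r v hv * r v' hv') ^ 3 = 1 := by
        refine Subtype.ext ?_
        have hb := CfsgLib.OrthReflThree.conj_eq_conj_of_polar hc hv hv' hp
        rw [CfsgLib.OrthSpinor.reflection_inv, CfsgLib.OrthSpinor.reflection_inv] at hb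
        show (refl hc hv * refl hc hv') ^ 3 = 1
        calc (refl hc hv * refl hc hv') ^ 3
            = (refl hc hv * refl hc hv' * refl hc hv) *
              (refl hc hv' * refl hc hv * refl hc hv') := by simp [pow_succ, mul_assoc]
          _ = (refl hc hv' * refl hc hv * refl hc hv') *
              (refl hc hv' * refl hc hv * refl hc hv') := by rw [hb]
          _ = refl hc hv' * (refl hc hv * ((refl hc hv' * refl hc hv') * refl hc hv)) *
              refl hc hv' := by simp only [mul_assoc]
          _ = 1 := by simp only [refl, reflection_mul_self, one_mul, mul_one]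
      have hsqc : (r v hv * r v' hv') ^ 2 ∈ center ↥R := by
        rw [← QuotientGroup.eq_one_iff, QuotientGroup.mk_pow, QuotientGroup.mk_mul, h1.mul_pow,
          ← QuotientGroup.mk_pow, ← QuotientGroup.mk_pow, pow_two, pow_two,
          show r v hv * r v hv = 1 from Subtype.ext (reflection_mul_self (hv ▸ hc)),
          show r v' hv' * r v' hv' = 1 from Subtype.ext (reflection_mul_self (hv' ▸ hc)),
          QuotientGroup.mk_one, one_mul]
      have hz : r v hv * r v' hv' ∈ center ↥R := by
        have : r v hv * r v' hv' = ((r v hv * r v' hv') ^ 2)⁻¹ :=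
          eq_inv_of_mul_eq_one_left (by rw [← pow_succ', hcube])
        rw [this]; exact inv_mem hsqc
      have hz1 : refl hc hv * refl hc hv' = 1 := by
        rcases (hscal _).1 hz with h2 | h2
        · exact h2
        · exfalso
          have h3 : (refl hc hv * refl hc hv') ^ 3 = 1 := congrArg Subtype.val hcube
          rw [show refl hc hv * refl hc hv' = m from h2] at h3
          have h4 := congrArg (fun k => act Q k (w 0)) h3
          simp only [pow_succ, pow_zero, one_mul, act_mul, hm, act_one, neg_neg] at h4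
          have h6 : ∀ t : ZMod 3, -t = t → t = 0 := by decide
          have h7 : w 0 = 0 := funext fun i => h6 _ (congrFun h4 i)
          have h8 := hw.norm 0
          rw [h7, map_zero, mul_one] at h8
          exact hc h8.symm
      have hrr : refl hc hv = refl hc hv' := by
        rw [eq_inv_of_mul_eq_one_left hz1]; exact CfsgLib.OrthSpinor.reflection_inv _
      have h5 := congrArg (fun k => act Q k v') hrr
      simp only [act_refl] at h5
      set s := c * polar (⇑Q) v v' with hs
      have hs0 : s ≠ 0 := mul_ne_zero hc hp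
      have hself : c * polar (⇑Q) v' v' = 2 := by
        rw [polar_self3, hv', mul_left_comm, CfsgLib.OrthReflThree.sq_one c hc, mul_one]
      rw [hself] at h5
      have h6 : s • v = (2 : ZMod 3) • v' := sub_right_injective h5
      have h7 : v = (s * 2) • v' := by
        rw [mul_smul, ← h6, smul_smul, CfsgLib.OrthReflThree.sq_one s hs0, one_smul]
      have : ∀ s : ZMod 3, s ≠ 0 → s * 2 = 1 ∨ s * 2 = -1 := by decide
      rcases this s hs0 with h8 | h8
      · exact Or.inl (by rw [h7, h8, one_smul])
      · exact Or.inr (by rw [h7, h8, neg_one_smul])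
    · intro hcase
      refine commute_of_mk hset hSD hx.1 hy.1 ((commute_map_iff e.injective).1 ?_)
      rw [he, he']
      refine Commute.map ?_ (QuotientGroup.mk' _)
      refine Subtype.ext ?_
      rcases hcase with hp | rfl | rfl
      · exact CfsgLib.OrthReflThree.commute_of_polar hc hv hv' hp
      · rfl
      · have : refl hc hv = refl hc hv' := CfsgLib.OrthSpinor.reflection_neg (hv' ▸ hc)
        show refl hc hv * refl hc hv' = refl hc hv' * refl hc hv
        rw [this]

end CfsgLib.FischerFi22
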