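import Cfsg.Agent.Lib.FischerFi22.Frame
import Cfsg.Agent.Lib.FischerFi22.ReflData

set_option autoImplicit false

/-! Nine members with the diagram `Y332` in a group of type M(22). -/

namespace CfsgLib.FischerFi22

open Subgroup
open CfsgLib.Classical.Herm HermSpace
open CfsgLib.ThreeTrans (link mul_self inv_eq commute_conj_iff' conj_self_of_commute braid)

universe u

variable {G : Type u} [Group G] {D : Set G}

/-- The edges of the diagram, nodes numbered `a, b, c, d, e, f, g, h, i`. -/
def y332 (i j : Fin 9) : Bool :=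
  [((0 : Fin 9), (1 : Fin 9)), (1, 2), (2, 3), (3, 4), (4, 5), (5, 6), (3, 7), (7, 8)].any
    fun p => p == (i, j) || p == (j, i)

/-- Members with the diagram `Y332`. -/
structure Diag (D : Set G) (x : Fin 9 → G) : Prop where
  mem : ∀ i, x i ∈ D
  comm : ∀ i j, y332 i j = false → Commute (x i) (x j)
  nc : ∀ i j, y332 i j = true → ¬ Commute (x i) (x j)

theorem y332_twins : ∀ i j : Fin 9, i ≠ j → ∃ k, y332 i k ≠ y332 j k := by decide +kernel

theorem Diag.ne {x : Fin 9 → G} (H : Diag D x) {i j : Fin 9} (hij : i ≠ j) : x i ≠ x j := by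
  intro he
  obtain ⟨k, hk⟩ := y332_twins i j hij
  cases hi : y332 i k <;> cases hj : y332 j k <;> rw [hi, hj] at hk
  · exact hk rfl
  · exact H.nc j k hj (he ▸ H.comm i k hi)
  · exact H.nc i k hi (he ▸ H.comm j k hj)
  · exact hk rfl

theorem Diag.mem_link {x : Fin 9 → G} (H : Diag D x) {i j : Fin 9} (hij : i ≠ j)
    (h : y332 i j = false) : x j ∈ link D (x i) :=
  ⟨H.mem j, (H.ne hij).symm, H.comm i j h⟩

/-- The path `i, h, d, e, f, g`. -/
def pathNode : Fin 6 → Fin 9 := ![8, 7, 3, 4, 5, 6]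

variable {F : Type} [Field F] [Fintype F] {hF : Fintype.card F = 2 ^ 2}
  {P : (Fin 6 → F) → G → Prop} {x : Fin 9 → G}

theorem Diag.path_pattern (H : Diag D x) (i j : Fin 6) (hij : i ≠ j) :
    Commute (x (pathNode i)) (x (pathNode j)) ↔ ¬ (i.val + 1 = j.val ∨ j.val + 1 = i.val) := by
  have key : ∀ i j : Fin 6, i ≠ j →
      (y332 (pathNode i) (pathNode j) = true ↔ (i.val + 1 = j.val ∨ j.val + 1 = i.val)) := by
    decide +kernel
  rw [← key i j hij]
  cases h : y332 (pathNode i) (pathNode j)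
  · simp [H.comm _ _ h]
  · simp [H.nc _ _ h]

theorem Diag.exists_frame (H : Diag D x) {p : Fin 9} (hp : p = 0 ∨ p = 1)
    (U : Uni hF D (x p) P) : ∃ v, UFrame hF P (fun i => x (pathNode i)) v := by
  refine U.exists_frame (fun i => ?_) H.path_pattern
  have key : ∀ p : Fin 9, (p = 0 ∨ p = 1) → ∀ i, p ≠ pathNode i ∧ y332 p (pathNode i) = false := by
    decide +kernel
  exact H.mem_link (key p hp i).1 (key p hp i).2

theorem Diag.coord_c (H : Diag D x) {v : Fin 6 → Fin 6 → F} (U : Uni hF D (x 0) P)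
    (W : UFrame hF P (fun i => x (pathNode i)) v) : Coord hF P v ![0, 0, 0, 1, 0, 1] (x 2) := by
  obtain ⟨w, hw⟩ := U.surj _ (H.mem_link (i := 0) (j := 2) (by decide) (by decide))
  set T := vec hF v ![0, 0, 0, 1, 0, 1] with hT
  set μ := (stdHerm hF 6).h w (v 2) with hμ
  have hμ0 : μ ≠ 0 := fun h0 => H.nc 2 3 (by decide) ((U.comm hw (W.pts 2)).2 h0)
  have hTv : ∀ i, (stdHerm hF 6).h T (v i) = if i = 2 then 1 else 0 := fun i => by
    rw [hT, ← vec_single (hF := hF) (v := v) i, W.h_vec,
      show pathBil ![0, 0, 0, 1, 0, 1] (Pi.single i 1) = if i = 2 then 1 else 0 by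
        revert i; decide +kernel, apply_ite (iot hF), map_one, map_zero]
  have hw' : w = μ • T := by
    refine sub_eq_zero.1 (W.zero_of_orth fun i => ?_)
    rw [(stdHerm hF 6).sub_left, (stdHerm hF 6).smul_left, hTv]
    by_cases hi : i = 2
    · subst hi; rw [if_pos rfl, mul_one, sub_self]
    · have key : ∀ i : Fin 6, i ≠ 2 → y332 2 (pathNode i) = false := by decide +kernel
      rw [if_neg hi, mul_zero, sub_zero]
      exact (U.comm hw (W.pts i)).1 (H.comm 2 _ (key i hi))
  have := U.smul hw (inv_ne_zero hμ0)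
  rw [hw', smul_smul, inv_mul_cancel₀ hμ0, one_smul] at this
  exact this

variable [Finite G]

/-- All the common members of two links correspond to the reflections. -/
theorem exists_refl_link (hc : Cfsg.IsThreeTranspositionClass D) {a b : G}
    {c₃ : ZMod 3} (hc₃ : c₃ ≠ 0) (U : Uni hF D a P)
    (h : Cfsg.IsProjReflectionGroupModThree
      (↥(closure (link D a ∩ link D b)) ⧸ center ↥(closure (link D a ∩ link D b))) 6 1 c₃) :
    ∃ (Q : QuadraticForm (ZMod 3) (Fin 6 → ZMod 3)) (R : (Fin 6 → ZMod 3) → G → Prop),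
      Refl Q c₃ (link D a ∩ link D b) R := by
  set S := link D a ∩ link D b with hS
  have hconj : ∀ k ∈ closure S, ∀ y ∈ S, k * y * k⁻¹ ∈ S := by
    intro k hk y hy
    have hka : Commute k a := mem_centralizer_singleton_iff.1
      (((closure_le _).2 fun e he => mem_centralizer_singleton_iff.2 he.1.2.2.eq.symm :
        closure S ≤ centralizer {a}) hk)
    have hkb : Commute k b := mem_centralizer_singleton_iff.1
      (((closure_le _).2 fun e he => mem_centralizer_singleton_iff.2 he.2.2.2.eq.symm :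
        closure S ≤ centralizer {b}) hk)
    have h1 := CfsgLib.FischerType.link_conj_mem hc k hy.1
    have h2 := CfsgLib.FischerType.link_conj_mem hc k hy.2
    rw [conj_self_of_commute hka] at h1
    rw [conj_self_of_commute hkb] at h2
    exact ⟨h1, h2⟩
  obtain ⟨Q, R, hR⟩ := exists_refl_nonCentral (D := D) hc.1 (fun y hy => hy.1.1) hconj rfl hc₃ h
  have heq : nonCentral S = S := by
    refine Set.Subset.antisymm (fun y hy => hy.1) fun y hy => ⟨hy, ?_⟩
    by_contra! hno
    obtain ⟨p, hp, hpat⟩ := hR.exists_path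
    obtain ⟨v, W⟩ := U.exists_frame (fun i => (hp i).1.1) fun i j hij => by
      have key : ∀ i j : Fin 6, pathAdj i j = 0 ↔ ¬ (i.val + 1 = j.val ∨ j.val + 1 = i.val) := by
        decide +kernel
      exact (hpat i j hij).trans (key i j)
    obtain ⟨w, hw⟩ := U.surj y hy.1
    exact U.ne hw (W.zero_of_orth fun i => (U.comm hw (W.pts i)).1 (hno _ (hp i).1))
  rw [heq] at hR
  exact ⟨Q, R, hR⟩

/-- The diagram exists. -/
theorem exists_diag (hc : Cfsg.IsThreeTranspositionClass D) {a b : G} (hb : b ∈ D)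
    (hab : ¬ Commute a b) {Q : QuadraticForm (ZMod 3) (Fin 6 → ZMod 3)} {c₃ : ZMod 3}
    {R : (Fin 6 → ZMod 3) → G → Prop} (U : Uni hF D a P)
    (hR : Refl Q c₃ (link D a ∩ link D b) R) :
    ∃ x : Fin 9 → G, x 0 = a ∧ x 1 = b ∧ Diag D x := by
  obtain ⟨p, hp, hpat⟩ := hR.exists_path
  have key : ∀ i j : Fin 6, pathAdj i j = 0 ↔ ¬ (i.val + 1 = j.val ∨ j.val + 1 = i.val) := by
    decide +kernel
  obtain ⟨v, W⟩ := U.exists_frame (fun i => (hp i).1) fun i j hij => (hpat i j hij).trans (key i j)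
  have hT : (stdHerm hF 6).h (vec hF v ![0, 0, 0, 1, 0, 1]) (vec hF v ![0, 0, 0, 1, 0, 1]) = 0 := by
    rw [W.h_vec, show pathBil ![0, 0, 0, 1, 0, 1] ![0, 0, 0, 1, 0, 1] = 0 by decide +kernel, map_zero]
  obtain ⟨c, hcP⟩ := U.exists_pt _ hT (fun h0 => by
    have := W.h_vec ![0, 0, 0, 1, 0, 1] (Pi.single 2 1)
    rw [h0, (stdHerm hF 6).zero_left,
      show pathBil ![0, 0, 0, 1, 0, 1] (Pi.single 2 1) = 1 by decide +kernel, map_one] at this
    exact zero_ne_one this)
  have hcl := U.mem hcP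
  have hcom : ∀ i, Commute c (p i) ↔ pathBil ![0, 0, 0, 1, 0, 1] (Pi.single i 1) = 0 := fun i =>
    W.comm_iff U hcP (W.coord i)
  have cp : ∀ i : Fin 6, i ≠ 2 → Commute c (p i) := fun i hi =>
    (hcom i).2 (by revert hi; revert i; decide +kernel)
  have nd : ¬ Commute c (p 2) := fun h => absurd ((hcom 2).1 h) (by decide +kernel)
  have hbc : ¬ Commute b c := by
    intro hbc
    have hne : c ≠ b := fun h => hab (h ▸ hcl.2.2)
    refine hR.no_member hp hpat [0, 1, 3, 4, 5] [2] path_no_fifth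
      (z := c) ⟨hcl, hcl.1, hne, hbc⟩ (fun i hi => cp i ?_) fun i hi => ?_
    · rintro rfl; simp at hi
    · rw [List.mem_singleton] at hi; subst hi; exact nd
  refine ⟨![a, b, c, p 2, p 3, p 4, p 5, p 1, p 0], rfl, rfl, ⟨?_, ?_, ?_⟩⟩
  · intro i
    fin_cases i
    exacts [U.base, hb, hcl.1, (hp 2).1.1, (hp 3).1.1, (hp 4).1.1, (hp 5).1.1, (hp 1).1.1, (hp 0).1.1]
  all_goals intro i j h
  · have hab' : ∀ k, Commute a (p k) ∧ Commute b (p k) := fun k => ⟨(hp k).1.2.2, (hp k).2.2.2⟩
    have hpp : ∀ k l : Fin 6, pathAdj k l = 0 → Commute (p k) (p l) := fun k l h0 => by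
      by_cases hkl : k = l
      · subst hkl; exact Commute.refl _
      · exact (hpat k l hkl).2 h0
    fin_cases i <;> fin_cases j <;> first
      | exact absurd h (by decide)
      | exact Commute.refl _
      | exact hcl.2.2
      | exact hcl.2.2.symm
      | exact (hab' _).1
      | exact (hab' _).1.symm
      | exact (hab' _).2
      | exact (hab' _).2.symm
      | exact cp _ (by decide)
      | exact (cp _ (by decide)).symm
      | exact hpp _ _ (by decide)
  · have hpn : ∀ k l : Fin 6, k ≠ l → pathAdj k l ≠ 0 → ¬ Commute (p k) (p l) :=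
      fun k l hkl h1 h2 => h1 ((hpat k l hkl).1 h2)
    fin_cases i <;> fin_cases j <;> first
      | exact absurd h (by decide)
      | exact hab
      | exact fun h => hab h.symm
      | exact hbc
      | exact fun h => hbc h.symm
      | exact nd
      | exact fun h => nd h.symm
      | exact hpn _ _ (by decide) (by decide)

end CfsgLib.FischerFi22
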