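import Cfsg.Agent.Lib.FischerFi22.Uni

set_option autoImplicit false

/-! Coordinates in the unitary space given by six members of a link forming a path. -/

namespace CfsgLib.FischerFi22

open Subgroup CfsgLib.Classical.Herm HermSpace CfsgLib.UnitaryTransv
open CfsgLib.ThreeTrans (link)

universe u

variable {G : Type u} [Group G] {F : Type} [Field F] [Fintype F] {hF : Fintype.card F = 2 ^ 2}
  {D : Set G} {a : G} {P : (Fin 6 → F) → G → Prop}

local notation "𝓗" => stdHerm hF 6

/-- The path form on coordinates over two elements. -/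
def pathBil (x y : Fin 6 → ZMod 2) : ZMod 2 :=
  ∑ i : Fin 6, ∑ j : Fin 6, if i.val + 1 = j.val ∨ j.val + 1 = i.val then x i * y j else 0

theorem char_two (hF : Fintype.card F = 2 ^ 2) : CharP F 2 := by
  have h2 := two_eq_zero hF
  exact CharTwo.of_one_ne_zero_of_two_eq_zero one_ne_zero h2

/-- The embedding of the prime field. -/
def iot (hF : Fintype.card F = 2 ^ 2) : ZMod 2 →+* F :=
  haveI := char_two hF
  ZMod.castHom (dvd_refl 2) F

theorem iot_eq_zero (hF : Fintype.card F = 2 ^ 2) {t : ZMod 2} : iot hF t = 0 ↔ t = 0 := by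
  refine ⟨fun h => ?_, fun h => by rw [h, map_zero]⟩
  exact (iot hF).injective (by rw [h, map_zero])

theorem conj_iot (t : ZMod 2) : (𝓗).conj (iot hF t) = iot hF t := by
  rw [stdHerm_conj, ← map_pow]
  congr 1
  revert t; decide

/-- Six members of the link with normalised vectors forming a path. -/
structure UFrame (hF : Fintype.card F = 2 ^ 2) (P : (Fin 6 → F) → G → Prop)
    (x : Fin 6 → G) (v : Fin 6 → Fin 6 → F) : Prop where
  pts : ∀ i, P (v i) (x i)
  gram : ∀ i j : Fin 6, (stdHerm hF 6).h (v i) (v j) =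
    if i.val + 1 = j.val ∨ j.val + 1 = i.val then 1 else 0

theorem Uni.exists_frame (U : Uni hF D a P) {x : Fin 6 → G} (hx : ∀ i, x i ∈ link D a)
    (hpat : ∀ i j, i ≠ j →
      (Commute (x i) (x j) ↔ ¬ (i.val + 1 = j.val ∨ j.val + 1 = i.val))) :
    ∃ v, UFrame hF P x v := by
  have step : ∀ (i j : Fin 6) v, i.val + 1 = j.val → P v (x i) →
      ∃ w, P w (x j) ∧ (𝓗).h v w = 1 := by
    intro i j v hij hv
    obtain ⟨w, hw⟩ := U.surj _ (hx j)
    have hne : (𝓗).h v w ≠ 0 := fun h0 =>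
      (hpat i j (by intro h; subst h; omega)).1 ((U.comm hv hw).2 h0) (Or.inl hij)
    refine ⟨(𝓗).h v w • w, U.smul hw hne, ?_⟩
    rw [(𝓗).smul_right, stdHerm_conj]
    linear_combination CfsgLib.UnitaryTransv.pow_three hF hne
  obtain ⟨v₀, h₀⟩ := U.surj _ (hx 0)
  obtain ⟨v₁, h₁, e₁⟩ := step 0 1 v₀ (by decide) h₀
  obtain ⟨v₂, h₂, e₂⟩ := step 1 2 v₁ (by decide) h₁
  obtain ⟨v₃, h₃, e₃⟩ := step 2 3 v₂ (by decide) h₂
  obtain ⟨v₄, h₄, e₄⟩ := step 3 4 v₃ (by decide) h₃
  obtain ⟨v₅, h₅, e₅⟩ := step 4 5 v₄ (by decide) h₄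
  have hP : ∀ i, P (![v₀, v₁, v₂, v₃, v₄, v₅] i) (x i) := fun i => by
    fin_cases i <;> assumption
  refine ⟨_, hP, fun i j => ?_⟩
  split_ifs with h
  · have key : ∀ i j : Fin 6, i.val + 1 = j.val →
        (𝓗).h (![v₀, v₁, v₂, v₃, v₄, v₅] i) (![v₀, v₁, v₂, v₃, v₄, v₅] j) = 1 := by
      intro i j h
      fin_cases i <;> fin_cases j <;> first | assumption | simp at h
    rcases h with h | h
    · exact key i j h
    · exact (𝓗).h_comm_one (key j i h)
  · by_cases hij : i = j
    · subst hij; exact U.iso (hP i)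
    · exact (U.comm (hP i) (hP j)).1 ((hpat i j hij).2 h)

variable {x : Fin 6 → G} {v : Fin 6 → Fin 6 → F}

/-- The vector with given coordinates. -/
def vec (hF : Fintype.card F = 2 ^ 2) (v : Fin 6 → Fin 6 → F) (y : Fin 6 → ZMod 2) : Fin 6 → F :=
  ∑ i, iot hF (y i) • v i

theorem h_sum_left {ι : Type*} (s : Finset ι) (f : ι → Fin 6 → F) (w : Fin 6 → F) :
    (𝓗).h (∑ i ∈ s, f i) w = ∑ i ∈ s, (𝓗).h (f i) w :=
  map_sum ((𝓗).form w) f s

theorem h_sum_right {ι : Type*} (s : Finset ι) (f : ι → Fin 6 → F) (w : Fin 6 → F) :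
    (𝓗).h w (∑ i ∈ s, f i) = ∑ i ∈ s, (𝓗).h w (f i) := by
  rw [← (𝓗).symm', h_sum_left, map_sum]
  simp only [(𝓗).symm']

theorem h_comb (l m : Fin 6 → F) (v : Fin 6 → Fin 6 → F) :
    (𝓗).h (∑ i, l i • v i) (∑ j, m j • v j) =
      ∑ i, ∑ j, l i * (𝓗).conj (m j) * (𝓗).h (v i) (v j) := by
  rw [h_sum_left]
  refine Finset.sum_congr rfl fun i _ => ?_
  rw [h_sum_right]
  refine Finset.sum_congr rfl fun j _ => ?_
  rw [(𝓗).smul_left, (𝓗).smul_right, mul_assoc]

theorem UFrame.h_vec (W : UFrame hF P x v) (y z : Fin 6 → ZMod 2) :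
    (𝓗).h (vec hF v y) (vec hF v z) = iot hF (pathBil y z) := by
  rw [vec, vec, h_comb, pathBil, map_sum]
  refine Finset.sum_congr rfl fun i _ => ?_
  rw [map_sum]
  refine Finset.sum_congr rfl fun j _ => ?_
  rw [W.gram, conj_iot, apply_ite (iot hF), map_mul, map_zero]
  split_ifs <;> ring

theorem UFrame.comb_bijective (W : UFrame hF P x v) :
    Function.Bijective fun l : Fin 6 → F => ∑ i, l i • v i := by
  have hz : ∀ l : Fin 6 → F, ∑ i, l i • v i = 0 → l = 0 := by
    intro l hl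
    have e : ∀ j : Fin 6, (∑ i : Fin 6, l i * if i.val + 1 = j.val ∨ j.val + 1 = i.val then 1 else 0) = 0 := by
      intro j
      have h1 : (𝓗).h (∑ i, l i • v i) (v j) = 0 := by rw [hl, (𝓗).zero_left]
      rw [h_sum_left] at h1
      refine Eq.trans (Finset.sum_congr rfl fun i _ => ?_) h1
      rw [(𝓗).smul_left, W.gram]
    simp only [Fin.sum_univ_six] at e
    have l1 : l 1 = 0 := by simpa using e 0
    have l4 : l 4 = 0 := by simpa using e 5
    have l3 : l 3 = 0 := by simpa [l1] using e 2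
    have l5 : l 5 = 0 := by simpa [l3] using e 4
    have l2 : l 2 = 0 := by simpa [l4] using e 3
    have l0 : l 0 = 0 := by simpa [l2] using e 1
    funext i
    fin_cases i <;> assumption
  have hinj : Function.Injective fun l : Fin 6 → F => ∑ i, l i • v i := by
    intro l m h
    refine sub_eq_zero.1 (hz _ ?_)
    simp only [Pi.sub_apply, sub_smul, Finset.sum_sub_distrib]
    exact sub_eq_zero.2 h
  exact ⟨hinj, Finite.injective_iff_surjective.1 hinj⟩

theorem vec_single (i : Fin 6) : vec hF v (Pi.single i 1) = v i := by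
  simp [vec, Pi.single_apply, apply_ite (iot hF)]

theorem vec_add (y z : Fin 6 → ZMod 2) : vec hF v (y + z) = vec hF v y + vec hF v z := by
  simp [vec, add_smul, Finset.sum_add_distrib]

theorem vec_smul (t : ZMod 2) (y : Fin 6 → ZMod 2) :
    vec hF v (t • y) = iot hF t • vec hF v y := by
  simp [vec, Finset.smul_sum, mul_smul]

/-- Coordinates of a point. -/
def Coord (hF : Fintype.card F = 2 ^ 2) (P : (Fin 6 → F) → G → Prop) (v : Fin 6 → Fin 6 → F)
    (y : Fin 6 → ZMod 2) (z : G) : Prop :=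
  P (vec hF v y) z

theorem UFrame.coord (W : UFrame hF P x v) (i : Fin 6) : Coord hF P v (Pi.single i 1) (x i) := by
  rw [Coord, vec_single]; exact W.pts i

theorem UFrame.comm_iff (W : UFrame hF P x v) (U : Uni hF D a P) {y z : Fin 6 → ZMod 2} {s t : G}
    (hs : Coord hF P v y s) (ht : Coord hF P v z t) : Commute s t ↔ pathBil y z = 0 := by
  rw [U.comm hs ht, W.h_vec, iot_eq_zero hF]

/-- A member moved by another one. -/
theorem UFrame.reflect (W : UFrame hF P x v) (U : Uni hF D a P) {y z : Fin 6 → ZMod 2} {s t : G}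
    (hs : Coord hF P v y s) (ht : Coord hF P v z t) :
    Coord hF P v (y + pathBil y z • z) (t * s * t⁻¹) := by
  rw [Coord, vec_add, vec_smul, ← W.h_vec]
  exact U.refl hs ht

theorem UFrame.zero_of_orth (W : UFrame hF P x v) {y : Fin 6 → F}
    (hy : ∀ i, (𝓗).h y (v i) = 0) : y = 0 := by
  refine (𝓗).nondeg y fun z => ?_
  obtain ⟨m, rfl⟩ := W.comb_bijective.2 z
  show (𝓗).h y (∑ i, m i • v i) = 0
  rw [h_sum_right]
  exact Finset.sum_eq_zero fun i _ => by rw [(𝓗).smul_right, hy, mul_zero]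

/-- An element of the link group commuting with five members of a path and one further member `t`
with given coordinates. -/
theorem UFrame.fix_five (W : UFrame hF P x v) (U : Uni hF D a P) {k : G}
    (hk : k ∈ closure (link D a)) (j : Fin 6) (r : Fin 6 → ZMod 2)
    (hr : ∀ i, pathBil r (Pi.single i 1) = if i = j then 1 else 0) (hrr : pathBil r r = 0)
    (hrj : r j = 0) (hset : Cfsg.IsThreeTranspositionSet D)
    (hlam : ∀ f : Unit' (stdHerm hF 6), (∀ {w s}, P w s → P (f.1 w) (k * s * k⁻¹)) →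
      ∃ lam : F, lam ≠ 0 ∧ ∀ i, i ≠ j → f.1 (v i) = lam • v i) :
    k = 1 ∨ k = a ∨ ∃ t, Coord hF P v r t ∧ (k = t ∨ k = t * a) := by
  obtain ⟨f, hf⟩ := U.act k hk
  obtain ⟨lam, hlam0, hl⟩ := hlam f fun {w s} h => hf h
  have hll : (𝓗).conj lam * lam = 1 := by
    rw [stdHerm_conj]; linear_combination CfsgLib.UnitaryTransv.pow_three hF hlam0
  set R := vec hF v r with hR
  have hRv : ∀ i, (𝓗).h R (v i) = if i = j then 1 else 0 := fun i => by
    rw [hR, ← vec_single (hF := hF) (v := v) i, W.h_vec, hr i, apply_ite (iot hF), map_one, map_zero]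
  set d := f.1 (v j) - lam • v j with hd
  have hRfix : f.1 R = lam • R := by
    rw [hR, vec, map_sum, Finset.smul_sum]
    refine Finset.sum_congr rfl fun i _ => ?_
    by_cases hij : i = j
    · subst hij; simp [hrj]
    · rw [map_smul, hl i hij, smul_comm]
  have horth : ∀ i, i ≠ j → (𝓗).h d (v i) = 0 := fun i hij => by
    have h1 := unit_h f (v j) (v i)
    rw [hl i hij, (𝓗).smul_right] at h1
    have h2 : (𝓗).h (f.1 (v j)) (v i) = lam * (𝓗).h (v j) (v i) := by
      linear_combination lam * h1 - (𝓗).h (f.1 (v j)) (v i) * hll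
    rw [hd, (𝓗).sub_left, (𝓗).smul_left, h2, sub_self]
  set μ := (𝓗).h d (v j) with hμ
  have hdR : d = μ • R := by
    refine sub_eq_zero.1 (W.zero_of_orth fun i => ?_)
    rw [(𝓗).sub_left, (𝓗).smul_left, hRv]
    by_cases hij : i = j
    · subst hij; simp [hμ]
    · rw [if_neg hij, horth i hij, mul_zero, sub_self]
  have hfj : f.1 (v j) = lam • (v j + ((𝓗).conj lam * μ) • R) := by
    rw [smul_add, smul_smul, ← mul_assoc, mul_comm lam, hll, one_mul, ← hdR, hd, add_sub_cancel]
  set α := (𝓗).conj lam * μ with hα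
  have hα01 : α = 0 ∨ α = 1 := by
    have h1 := unit_h f (v j) (v j)
    have hjj : (𝓗).h (v j) (v j) = 0 := U.iso (W.pts j)
    have hRj : (𝓗).h R (v j) = 1 := by rw [hRv, if_pos rfl]
    have hRR : (𝓗).h R R = 0 := by rw [hR, W.h_vec, hrr, map_zero]
    rw [hfj, (𝓗).smul_left, (𝓗).smul_right, (𝓗).add_left, (𝓗).add_right, (𝓗).add_right,
      (𝓗).smul_left, (𝓗).smul_left, (𝓗).smul_right, (𝓗).smul_right, hjj, hRj,
      (𝓗).h_comm_one hRj, hRR] at h1
    by_cases h0 : α = 0
    · exact Or.inl h0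
    · have h2 : α + (𝓗).conj α = 0 := by
        linear_combination h1 - (α + (𝓗).conj α) * hll
      rw [stdHerm_conj] at h2
      refine Or.inr (mul_left_cancel₀ h0 ?_)
      linear_combination h2 - α * two_eq_zero hF
  have hspan : ∀ g : (Fin 6 → F) →ₗ[F] (Fin 6 → F), (∀ i, g (v i) = 0) → ∀ w, g w = 0 := by
    intro g hg w
    obtain ⟨l, rfl⟩ := W.comb_bijective.2 w
    simp [hg]
  have hagree : ∀ w, f.1 w = lam • (w + α • ((𝓗).h w R • R)) := by
    intro w
    refine sub_eq_zero.1 (hspan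
      ((f.1 : (Fin 6 → F) →ₗ[F] (Fin 6 → F)) -
        lam • (LinearMap.id + α • (((𝓗).form R).smulRight R))) (fun i => ?_) w)
    show f.1 (v i) - lam • (v i + α • ((𝓗).h (v i) R • R)) = 0
    have hiR : (𝓗).h (v i) R = if i = j then 1 else 0 := by
      rw [← (𝓗).symm', hRv, apply_ite (𝓗).conj, map_one, map_zero]
    by_cases hij : i = j
    · subst hij; rw [hiR, if_pos rfl, one_smul, hfj, sub_self]
    · rw [hiR, if_neg hij, zero_smul, smul_zero, add_zero, hl i hij, sub_self]
  have finish : ∀ y ∈ closure (link D a),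
      (∀ {w s}, P w s → P (lam • w) (y * s * y⁻¹)) → y = 1 ∨ y = a := by
    intro y hy hP
    refine U.kernel y hy fun s hs => ?_
    obtain ⟨w, hw⟩ := U.surj s hs
    exact mul_inv_eq_iff_eq_mul.1 (U.inj (hP hw) (U.smul hw hlam0))
  rcases hα01 with h0 | h1
  · rcases finish k hk (fun {w s} hP => by
      have := hf hP
      rwa [hagree, h0, zero_smul, add_zero] at this) with h | h
    · exact Or.inl h
    · exact Or.inr (Or.inl h)
  · have hRne : R ≠ 0 := fun h0 => by
      have := hRv j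
      rw [h0, (𝓗).zero_left, if_pos rfl] at this
      exact zero_ne_one this
    obtain ⟨t, ht⟩ := U.exists_pt R (by rw [hR, W.h_vec, hrr, map_zero]) hRne
    have htm := subset_closure (U.mem ht) (k := link D a)
    rcases finish (t * k) (mul_mem htm hk) (fun {w s} hP => by
      have h2 := U.refl (hf hP) ht
      rw [hagree, h1, one_smul] at h2
      have he : lam • (w + (𝓗).h w R • R) + (𝓗).h (lam • (w + (𝓗).h w R • R)) R • R = lam • w := by
        have hRR : (𝓗).h R R = 0 := U.iso ht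
        rw [(𝓗).smul_left, (𝓗).add_left, (𝓗).smul_left, hRR, mul_zero, add_zero, smul_add,
          smul_smul, add_assoc, smul_add_self_zero hF, add_zero]
      rw [he] at h2
      convert h2 using 1
      group) with h | h
    · refine Or.inr (Or.inr ⟨t, ht, Or.inl ?_⟩)
      rw [eq_inv_of_mul_eq_one_right h, CfsgLib.ThreeTrans.inv_eq hset (U.mem ht).1]
    · refine Or.inr (Or.inr ⟨t, ht, Or.inr ?_⟩)
      rw [← h, ← mul_assoc, CfsgLib.ThreeTrans.mul_self hset (U.mem ht).1, one_mul]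

/-- An isometry realising conjugation by `k` scales the vector of a member commuting with `k`. -/
theorem Uni.eigen (U : Uni hF D a P) {k : G} {f : Unit' (stdHerm hF 6)}
    (hf : ∀ {w s}, P w s → P (f.1 w) (k * s * k⁻¹)) {w : Fin 6 → F} {s : G} (hw : P w s)
    (hc : Commute k s) : ∃ c : F, c ≠ 0 ∧ f.1 w = c • w := by
  have h := hf hw
  rw [CfsgLib.ThreeTrans.conj_self_of_commute hc] at h
  exact U.uniq hw h

/-- Scalars agree on vectors that are not orthogonal. -/
theorem eigen_eq {f : Unit' (stdHerm hF 6)} {w w' : Fin 6 → F} {c c' : F} (hc' : c' ≠ 0)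
    (hw : f.1 w = c • w) (hw' : f.1 w' = c' • w') (h : (stdHerm hF 6).h w w' ≠ 0) : c = c' := by
  have h1 := unit_h f w w'
  rw [hw, hw', (stdHerm hF 6).smul_left, (stdHerm hF 6).smul_right, stdHerm_conj] at h1
  have h2 : c * c' ^ 2 = 1 := mul_right_cancel₀ h (by linear_combination h1)
  linear_combination c' * h2 - c * CfsgLib.UnitaryTransv.pow_three hF hc'

end CfsgLib.FischerFi22
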