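import Cfsg.Agent.Lib.FischerFi22.ReflGeom

set_option autoImplicit false

/-! Classification of the elements with small displacements. -/

namespace CfsgLib.FischerFi22

open QuadraticMap (polar)
open CfsgLib.OrthSpinor Subgroup

variable {Q : QuadraticForm (ZMod 3) (Fin 6 → ZMod 3)} {c : ZMod 3}
  (hQ : (QuadraticMap.polarBilin Q).Nondegenerate) (hc : c ≠ 0)

theorem norm_cases : ∀ q c : ZMod 3, c ≠ 0 → q ≠ 0 → q = c ∨ q = -c := by decide

theorem eigen_split (g : OGroup Q) (hg : ∀ x, act Q g (act Q g x) = x) (x : Fin 6 → ZMod 3) :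
    ∃ p m, x = p + m ∧ act Q g p = p ∧ act Q g m = -m := by
  refine ⟨(2 : ZMod 3) • (x + act Q g x), (2 : ZMod 3) • (x - act Q g x), ?_, ?_, ?_⟩
  · funext i
    simp only [Pi.add_apply, Pi.smul_apply, Pi.sub_apply, smul_eq_mul]
    have h3 : (3 : ZMod 3) = 0 := by decide
    linear_combination -(x i) * h3
  · rw [act_smul, act_add, hg, add_comm]
  · rw [act_smul, act_sub, hg, ← smul_neg, neg_sub]

theorem polar_eigen (g : OGroup Q) (p m : Fin 6 → ZMod 3) (hp : act Q g p = p)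
    (hm : act Q g m = -m) : polar (⇑Q) p m = 0 := by
  have h := polar_act Q g p m
  rw [hp, hm, QuadraticMap.polar_neg_right] at h
  have h6 : ∀ t : ZMod 3, -t = t → t = 0 := by decide
  exact h6 _ h

theorem eigen_anisotropic (g : OGroup Q) (hg : ∀ x, act Q g (act Q g x) = x)
    (e : ZMod 3) (he : e = 1 ∨ e = -1) (W : Set (Fin 6 → ZMod 3))
    (hW : ∀ y, y ∈ W ↔ act Q g y = e • y) {k : ℕ} (b : Fin k → Fin 6 → ZMod 3)
    (hbW : ∀ i, b i ∈ W) (hb : ∀ i, Q (b i) ≠ 0) (hbb : ∀ i j, i ≠ j → polar (⇑Q) (b i) (b j) = 0)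
    (hQ : (QuadraticMap.polarBilin Q).Nondegenerate) :
    (∀ y ∈ W, ∃ t : Fin k → ZMod 3, y = comb b t) ∨
      ∃ z ∈ W, Q z ≠ 0 ∧ ∀ i, polar (⇑Q) (b i) z = 0 := by
  by_cases hno : ∃ z ∈ W, Q z ≠ 0 ∧ ∀ i, polar (⇑Q) (b i) z = 0
  · exact Or.inr hno
  left
  push Not at hno
  have hzero : ∀ z ∈ W, (∀ i, polar (⇑Q) (b i) z = 0) → Q z = 0 := fun z hz hz' => by
    by_contra hq
    obtain ⟨i, hi⟩ := hno z hz hq
    exact hi (hz' i)
  have hadd : ∀ y z, y ∈ W → z ∈ W → y + z ∈ W := fun y z hy hz => by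
    rw [hW] at *; rw [act_add, hy, hz, smul_add]
  have hsmul : ∀ (t : ZMod 3) y, y ∈ W → t • y ∈ W := fun t y hy => by
    rw [hW] at *; rw [act_smul, hy, smul_comm]
  have proj : ∀ y ∈ W, ∃ t : Fin k → ZMod 3, y - comb b t ∈ W ∧
      ∀ i, polar (⇑Q) (b i) (y - comb b t) = 0 := by
    intro y hy
    refine ⟨fun i => 2 * Q (b i) * polar (⇑Q) (b i) y, ?_, fun i => ?_⟩
    · rw [hW, act_sub, (hW y).1 hy, smul_sub]
      congr 1
      show act Q g (∑ j, _ • b j) = e • ∑ j, _ • b j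
      rw [Finset.smul_sum]
      induction (Finset.univ : Finset (Fin k)) using Finset.induction_on with
      | empty => simp
      | insert j s hj ih =>
        rw [Finset.sum_insert hj, Finset.sum_insert hj, act_add, ih, act_smul, (hW _).1 (hbW j),
          smul_comm]
    · show QuadraticMap.polarBilin Q (b i) (y - ∑ j, _ • b j) = 0
      rw [map_sub, map_sum, Finset.sum_eq_single i]
      · simp only [map_smul, QuadraticMap.polarBilin_apply_apply, polar_self3, smul_eq_mul]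
        have h2 : ∀ q p : ZMod 3, q ≠ 0 → p - 2 * q * p * (2 * q) = 0 := by decide
        exact h2 _ _ (hb i)
      · intro j _ hji
        simp [hbb i j hji.symm]
      · simp
  intro y hy
  obtain ⟨t, ht, hto⟩ := proj y hy
  refine ⟨t, sub_eq_zero.1 (CfsgLib.OrthSpinor.eq_zero_of_polar hQ fun x => ?_)⟩
  obtain ⟨p, m, rfl, hp, hm⟩ := eigen_split g hg x
  have same : ∀ z ∈ W, polar (⇑Q) (y - comb b t) z = 0 := by
    intro z hz
    obtain ⟨s, hs, hso⟩ := proj z hz
    have h1 : polar (⇑Q) (y - comb b t) (z - comb b s) = 0 := by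
      have e0 := hzero _ (hadd _ _ ht hs) fun i => by
        rw [QuadraticMap.polar_add_right, hto, hso, add_zero]
      rwa [map_add' Q, hzero _ ht hto, hzero _ hs hso, zero_add, zero_add] at e0
    have h2 : polar (⇑Q) (y - comb b t) (comb b s) = 0 := by
      show QuadraticMap.polarBilin Q _ (∑ j, s j • b j) = 0
      rw [map_sum]
      refine Finset.sum_eq_zero fun j _ => ?_
      rw [map_smul, QuadraticMap.polarBilin_apply_apply, polar_comm' Q (y - comb b t) (b j), hto,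
        smul_zero]
    rw [show z = (z - comb b s) + comb b s from (sub_add_cancel _ _).symm,
      QuadraticMap.polar_add_right, h1, h2, add_zero]
  rw [QuadraticMap.polar_add_right]
  rcases he with rfl | rfl
  · rw [same p ((hW p).2 (by rw [hp, one_smul])),
      polar_eigen g _ m (by have := (hW _).1 ht; rwa [one_smul] at this) hm, add_zero]
  · rw [same m ((hW m).2 (by rw [hm, neg_one_smul])), polar_comm' Q,
      polar_eigen g p _ hp (by have := (hW _).1 ht; rwa [neg_one_smul] at this), add_zero]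

/-- The sign action on a system of four vectors. -/
def signF (x : Fin 4 → ZMod 3) : Fin 4 → ZMod 3 := ![x 0, x 1, -(x 2), -(x 3)]

/-- The action of an element of square `-1` on a system of four vectors. -/
def turnF (x : Fin 4 → ZMod 3) : Fin 4 → ZMod 3 := ![-(x 1), x 0, -(x 3), x 2]

/-- The inverse of `turnF`. -/
def turnF' (x : Fin 4 → ZMod 3) : Fin 4 → ZMod 3 := ![x 1, -(x 0), x 3, -(x 2)]

theorem orthSys_four {a₀ a₁ a₂ a₃ : Fin 6 → ZMod 3} {d : Fin 4 → ZMod 3}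
    (n₀ : Q a₀ = c * d 0) (n₁ : Q a₁ = c * d 1) (n₂ : Q a₂ = c * d 2) (n₃ : Q a₃ = c * d 3)
    (o₀₁ : polar (⇑Q) a₀ a₁ = 0) (o₀₂ : polar (⇑Q) a₀ a₂ = 0) (o₀₃ : polar (⇑Q) a₀ a₃ = 0)
    (o₁₂ : polar (⇑Q) a₁ a₂ = 0) (o₁₃ : polar (⇑Q) a₁ a₃ = 0) (o₂₃ : polar (⇑Q) a₂ a₃ = 0) :
    OrthSys Q c d ![a₀, a₁, a₂, a₃] := by
  refine ⟨fun i => by fin_cases i <;> assumption, fun i j hij => ?_⟩
  fin_cases i <;> fin_cases j <;>
    first
      | exact absurd rfl hij
      | assumption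
      | exact (polar_comm' Q _ _).trans ‹_›

theorem acts_four {a₀ a₁ a₂ a₃ : Fin 6 → ZMod 3} {g : OGroup Q}
    {f : (Fin 4 → ZMod 3) → Fin 4 → ZMod 3}
    (h : ∀ x₀ x₁ x₂ x₃ : ZMod 3, x₀ • act Q g a₀ + x₁ • act Q g a₁ + x₂ • act Q g a₂ +
      x₃ • act Q g a₃ = comb ![a₀, a₁, a₂, a₃] (f ![x₀, x₁, x₂, x₃])) :
    Acts ![a₀, a₁, a₂, a₃] g f := by
  intro x
  have hx : x = ![x 0, x 1, x 2, x 3] := by funext i; fin_cases i <;> rfl
  have h0 := h (x 0) (x 1) (x 2) (x 3)
  rw [← hx] at h0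
  rw [← h0]
  simp [comb, Fin.sum_univ_four, act_add, act_smul]

theorem bad_turn : BadPair (fun _ => 1) ![0, 0, 0, 1] ![1, 1, 1, 1] ![0, 0, 0, 1] turnF turnF' := by
  unfold BadPair; decide +kernel

theorem bad_sign_a : BadPair ![1, 2, 1, 1] ![0, 1, 1, 1] ![1, 1, 0, 1] ![0, 0, 0, 1] signF signF := by
  unfold BadPair; decide +kernel

theorem bad_sign_b : BadPair ![1, 1, 1, 2] ![0, 1, 1, 1] ![1, 0, 1, 2] ![0, 0, 0, 1] signF signF := by
  unfold BadPair; decide +kernel

theorem bad_sign_c : BadPair ![1, 2, 1, 2] ![0, 1, 0, 1] ![1, 0, 1, 1] ![0, 0, 1, 0] signF signF := by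
  unfold BadPair; decide +kernel

theorem signF_signF : ∀ x, signF (signF x) = x := fun x => by
  funext i; fin_cases i <;> simp [signF]

include hQ in
theorem no_turn {g : OGroup Q} (hg : ∀ x, act Q g (act Q g x) = -x) (hs : SmallDisp hc g) :
    False := by
  obtain ⟨v₀, hv₀⟩ := exists_norm (by decide : (2 : ZMod 3) ≠ 0) hQ
    (by rw [Fintype.card_fin]; norm_num) c
  have orthg : ∀ v, polar (⇑Q) v (act Q g v) = 0 := by
    intro v
    have h := polar_act Q g v (act Q g v)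
    rw [hg, QuadraticMap.polar_neg_right, polar_comm' Q (act Q g v)] at h
    have h6 : ∀ t : ZMod 3, -t = t → t = 0 := by decide
    exact h6 _ h
  obtain ⟨w₀, hw₀, hwo⟩ := CfsgLib.OrthReflThree.exists_ortho_norm hQ ![v₀, act Q g v₀]
    (fun i => by fin_cases i <;> simp [Q_act, hv₀, hc])
    (fun i j hij => by
      fin_cases i <;> fin_cases j <;>
        first
          | exact absurd rfl hij
          | exact orthg v₀
          | exact (polar_comm' Q _ _).trans (orthg v₀)) (by norm_num) c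
  have h1 : polar (⇑Q) v₀ w₀ = 0 := hwo 0
  have h2 : polar (⇑Q) (act Q g v₀) w₀ = 0 := hwo 1
  have h3 : polar (⇑Q) v₀ (act Q g w₀) = 0 := by
    rw [← polar_act Q g, hg, QuadraticMap.polar_neg_right, h2, neg_zero]
  have h4 : polar (⇑Q) (act Q g v₀) (act Q g w₀) = 0 := by rw [polar_act, h1]
  have hsys : OrthSys Q c (fun _ => 1) ![v₀, act Q g v₀, w₀, act Q g w₀] :=
    orthSys_four (by rw [hv₀, mul_one]) (by rw [Q_act, hv₀, mul_one]) (by rw [hw₀, mul_one])
      (by rw [Q_act, hw₀, mul_one]) (orthg _) h1 h3 h2 h4 (orthg _)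
  refine no_bad hQ hs hsys (fun _ => one_ne_zero) (by norm_num) (acts_four fun x₀ x₁ x₂ x₃ => ?_)
    (f := turnF) (f' := turnF') (fun x => by funext i; fin_cases i <;> simp [turnF, turnF']) bad_turn
  rw [hg, hg]
  simp [comb, Fin.sum_univ_four, turnF]
  module

include hQ in
theorem no_split {g : OGroup Q} (hs : SmallDisp hc g) {p₀ p₁ m₀ m₁ : Fin 6 → ZMod 3}
    {d : Fin 4 → ZMod 3} (hp₀ : act Q g p₀ = p₀) (hp₁ : act Q g p₁ = p₁) (hm₀ : act Q g m₀ = -m₀)
    (hm₁ : act Q g m₁ = -m₁) (np₀ : Q p₀ = c * d 0) (np₁ : Q p₁ = c * d 1)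
    (nm₀ : Q m₀ = c * d 2) (nm₁ : Q m₁ = c * d 3) (hp : polar (⇑Q) p₀ p₁ = 0)
    (hm : polar (⇑Q) m₀ m₁ = 0)
    (hd : d = ![1, 2, 1, 1] ∨ d = ![1, 1, 1, 2] ∨ d = ![1, 2, 1, 2]) : False := by
  have hsys : OrthSys Q c d ![p₀, p₁, m₀, m₁] :=
    orthSys_four np₀ np₁ nm₀ nm₁ hp (polar_eigen g _ _ hp₀ hm₀) (polar_eigen g _ _ hp₀ hm₁)
      (polar_eigen g _ _ hp₁ hm₀) (polar_eigen g _ _ hp₁ hm₁) hm
  have hacts : Acts ![p₀, p₁, m₀, m₁] g signF := acts_four fun x₀ x₁ x₂ x₃ => by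
    rw [hp₀, hp₁, hm₀, hm₁]
    simp [comb, Fin.sum_univ_four, signF]
  have hd0 : ∀ i, d i ≠ 0 := by
    rcases hd with rfl | rfl | rfl <;> decide
  rcases hd with rfl | rfl | rfl
  · exact no_bad hQ hs hsys hd0 (by norm_num) hacts signF_signF bad_sign_a
  · exact no_bad hQ hs hsys hd0 (by norm_num) hacts signF_signF bad_sign_b
  · exact no_bad hQ hs hsys hd0 (by norm_num) hacts signF_signF bad_sign_c

include hc in
theorem mixed_of_three (b : Fin 3 → Fin 6 → ZMod 3) (hb : ∀ i, Q (b i) ≠ 0)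
    (hbb : ∀ i j, i ≠ j → polar (⇑Q) (b i) (b j) = 0) :
    ∃ t s : Fin 3 → ZMod 3, Q (comb b t) = c * 1 ∧ Q (comb b s) = c * 2 ∧
      polar (⇑Q) (comb b t) (comb b s) = 0 := by
  have key : ∀ d : Fin 3 → ZMod 3, (∀ i, d i ≠ 0) → ∃ t s : Fin 3 → ZMod 3,
      2 * diagPolar d t t = 1 ∧ 2 * diagPolar d s s = 2 ∧ diagPolar d t s = 0 := by
    unfold diagPolar
    decide +kernel
  have hsys : OrthSys Q c (fun i => c * Q (b i)) b :=
    ⟨fun i => by rw [← mul_assoc, CfsgLib.OrthReflThree.sq_one c hc, one_mul], hbb⟩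
  obtain ⟨t, s, ht, hs, hts⟩ := key _ fun i => mul_ne_zero hc (hb i)
  exact ⟨t, s, by rw [hsys.Q_comb, ht], by rw [hsys.Q_comb, hs],
    by rw [hsys.polar_comb_comb, hts, mul_zero]⟩

include hc in
theorem pair_normal (b : Fin 2 → Fin 6 → ZMod 3) (hb : ∀ i, Q (b i) ≠ 0)
    (hbb : ∀ i j, i ≠ j → polar (⇑Q) (b i) (b j) = 0) :
    ∃ t s : Fin 2 → ZMod 3, ∃ e : ZMod 3, (e = 1 ∨ e = 2) ∧ Q (comb b t) = c * 1 ∧
      Q (comb b s) = c * e ∧ polar (⇑Q) (comb b t) (comb b s) = 0 := by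
  have key : ∀ d : Fin 2 → ZMod 3, (∀ i, d i ≠ 0) → ∃ t s : Fin 2 → ZMod 3, ∃ e : ZMod 3,
      (e = 1 ∨ e = 2) ∧
      2 * diagPolar d t t = 1 ∧ 2 * diagPolar d s s = e ∧ diagPolar d t s = 0 := by
    unfold diagPolar
    decide +kernel
  have hsys : OrthSys Q c (fun i => c * Q (b i)) b :=
    ⟨fun i => by rw [← mul_assoc, CfsgLib.OrthReflThree.sq_one c hc, one_mul], hbb⟩
  obtain ⟨t, s, e, he, ht, hs, hts⟩ := key _ fun i => mul_ne_zero hc (hb i)
  exact ⟨t, s, e, he, by rw [hsys.Q_comb, ht], by rw [hsys.Q_comb, hs],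
    by rw [hsys.polar_comb_comb, hts, mul_zero]⟩

theorem act_comb_eigen (g : OGroup Q) {k : ℕ} (b : Fin k → Fin 6 → ZMod 3) (e : ZMod 3)
    (hb : ∀ i, act Q g (b i) = e • b i) (t : Fin k → ZMod 3) :
    act Q g (comb b t) = e • comb b t := by
  show act Q g (∑ j, t j • b j) = e • ∑ j, t j • b j
  rw [Finset.smul_sum]
  induction (Finset.univ : Finset (Fin k)) using Finset.induction_on with
  | empty => simp
  | insert j s hj ih =>
    rw [Finset.sum_insert hj, Finset.sum_insert hj, act_add, ih, act_smul, hb, smul_comm]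

include hQ hc in
/-- Each eigenspace is spanned by at most one vector, or contains a normalised orthogonal pair, which
may be taken of mixed norms unless it spans the eigenspace. -/
theorem eigen_cases (g : OGroup Q) (hg : ∀ x, act Q g (act Q g x) = x) (e : ZMod 3)
    (he : e = 1 ∨ e = -1) :
    (∀ y, act Q g y = e • y → y = 0) ∨
    (∃ a, act Q g a = e • a ∧ Q a ≠ 0 ∧ ∀ y, act Q g y = e • y → ∃ t : ZMod 3, y = t • a) ∨
    ∃ a₀ a₁, ∃ s : ZMod 3, act Q g a₀ = e • a₀ ∧ act Q g a₁ = e • a₁ ∧ Q a₀ = c * 1 ∧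
      Q a₁ = c * s ∧ polar (⇑Q) a₀ a₁ = 0 ∧
      (s = 2 ∨ (s = 1 ∧ ∀ y, act Q g y = e • y → ∃ t t' : ZMod 3, y = t • a₀ + t' • a₁)) := by
  rcases eigen_anisotropic g hg e he {y | act Q g y = e • y} (fun _ => Iff.rfl) ![]
      (fun i => i.elim0) (fun i => i.elim0) (fun i => i.elim0) hQ with h | ⟨a, ha, haQ, -⟩
  · exact Or.inl fun y hy => by obtain ⟨t, rfl⟩ := h y hy; simp [comb]
  refine Or.inr ?_
  rcases eigen_anisotropic g hg e he {y | act Q g y = e • y} (fun _ => Iff.rfl) ![a]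
      (fun i => by fin_cases i; exact ha) (fun i => by fin_cases i; exact haQ)
      (fun i j hij => absurd (Subsingleton.elim i j) hij) hQ with h | ⟨b, hb, hbQ, hbo⟩
  · exact Or.inl ⟨a, ha, haQ, fun y hy => by
      obtain ⟨t, rfl⟩ := h y hy
      exact ⟨t 0, by simp [comb]⟩⟩
  refine Or.inr ?_
  have hab : polar (⇑Q) a b = 0 := hbo 0
  have hB : ∀ i, Q (![a, b] i) ≠ 0 := fun i => by fin_cases i <;> assumption
  have hBB : ∀ i j, i ≠ j → polar (⇑Q) (![a, b] i) (![a, b] j) = 0 := fun i j hij => by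
    fin_cases i <;> fin_cases j <;>
      first
        | exact absurd rfl hij
        | exact hab
        | exact (polar_comm' Q _ _).trans hab
  have hBe : ∀ i, act Q g (![a, b] i) = e • ![a, b] i := fun i => by
    fin_cases i <;> assumption
  obtain ⟨t, s, e', he', nt, ns, ots⟩ := pair_normal (Q := Q) hc ![a, b] hB hBB
  rcases he' with rfl | rfl
  · have hq2 : ∀ i, Q (![comb ![a, b] t, comb ![a, b] s] i) ≠ 0 := fun i => by
      fin_cases i <;> simp [nt, ns, hc]
    rcases eigen_anisotropic g hg e he {y | act Q g y = e • y} (fun _ => Iff.rfl)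
        ![comb ![a, b] t, comb ![a, b] s]
        (fun i => by fin_cases i <;> exact act_comb_eigen g _ e hBe _)
        hq2
        (fun i j hij => by
          fin_cases i <;> fin_cases j <;>
            first
              | exact absurd rfl hij
              | exact ots
              | exact (polar_comm' Q _ _).trans ots) hQ with h | ⟨z, hz, hzQ, hzo⟩
    · exact ⟨_, _, 1, act_comb_eigen g _ e hBe t, act_comb_eigen g _ e hBe s, nt, ns, ots,
        Or.inr ⟨rfl, fun y hy => by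
          obtain ⟨u, rfl⟩ := h y hy
          exact ⟨u 0, u 1, by simp [comb, Fin.sum_univ_two]⟩⟩⟩
    · have o1 : polar (⇑Q) (comb ![a, b] t) z = 0 := hzo 0
      have o2 : polar (⇑Q) (comb ![a, b] s) z = 0 := hzo 1
      obtain ⟨t', s', nt', ns', ots'⟩ := mixed_of_three (Q := Q) hc ![comb ![a, b] t, comb ![a, b] s, z]
        (fun i => by fin_cases i <;> simp [nt, ns, hc, hzQ])
        (fun i j hij => by
          fin_cases i <;> fin_cases j <;>
            first
              | exact absurd rfl hij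
              | exact ots
              | exact o1
              | exact o2
              | exact (polar_comm' Q _ _).trans ots
              | exact (polar_comm' Q _ _).trans o1
              | exact (polar_comm' Q _ _).trans o2)
      have hE : ∀ i, act Q g (![comb ![a, b] t, comb ![a, b] s, z] i) =
          e • ![comb ![a, b] t, comb ![a, b] s, z] i := fun i => by
        fin_cases i
        exacts [act_comb_eigen g _ e hBe t, act_comb_eigen g _ e hBe s, hz]
      exact ⟨_, _, 2, act_comb_eigen g _ e hE t', act_comb_eigen g _ e hE s', nt', ns', ots',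
        Or.inl rfl⟩
  · exact ⟨_, _, 2, act_comb_eigen g _ e hBe t, act_comb_eigen g _ e hBe s, nt, ns, ots, Or.inl rfl⟩

include hQ in
/-- An element with small displacements and scalar square is a scalar or a scalar multiple of a
reflection. -/
theorem classify {g : OGroup Q} (hs : SmallDisp hc g)
    (hsq : (∀ x, act Q g (act Q g x) = x) ∨ ∀ x, act Q g (act Q g x) = -x) :
    (∀ x, act Q g x = x) ∨ (∀ x, act Q g x = -x) ∨
      ∃ (v : Fin 6 → ZMod 3) (hv : Q v ≠ 0),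
        (∀ x, act Q g x = act Q (reflection hv) x) ∨ ∀ x, act Q g x = -act Q (reflection hv) x := by
  rcases hsq with hg | hg
  swap
  · exact (no_turn hQ hc hg hs).elim
  have hsplit := eigen_split g hg
  rcases eigen_cases hQ hc g hg 1 (Or.inl rfl) with hp | ⟨p, hp, hpQ, hpall⟩ |
    ⟨p₀, p₁, sp, hp₀, hp₁, np₀, np₁, op, hpall⟩
  · refine Or.inr (Or.inl fun x => ?_)
    obtain ⟨q, m, rfl, hq, hm⟩ := hsplit x
    rw [act_add, hq, hm, hp q (by rw [one_smul, hq]), zero_add, zero_add]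
  · rw [one_smul] at hp
    refine Or.inr (Or.inr ⟨p, hpQ, Or.inr fun x => ?_⟩)
    obtain ⟨q, m, rfl, hq, hm⟩ := hsplit x
    obtain ⟨t, rfl⟩ := hpall q (by rw [one_smul, hq])
    rw [act_add, act_add, act_smul, act_smul, hp, hm, act_reflection_self,
      act_reflection_of_ortho hpQ (polar_eigen g p m hp hm), smul_neg, neg_add, neg_neg]
  rcases eigen_cases hQ hc g hg (-1) (Or.inr rfl) with hm' | ⟨m', hm', hmQ, hmall⟩ |
    ⟨m₀, m₁, sm, hm₀, hm₁, nm₀, nm₁, om, hmall⟩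
  · refine Or.inl fun x => ?_
    obtain ⟨q, m, rfl, hq, hm⟩ := hsplit x
    rw [act_add, hq, hm, hm' m (by rw [neg_one_smul, hm]), neg_zero]
  · rw [neg_one_smul] at hm'
    refine Or.inr (Or.inr ⟨m', hmQ, Or.inl fun x => ?_⟩)
    obtain ⟨q, m, rfl, hq, hm⟩ := hsplit x
    obtain ⟨t, rfl⟩ := hmall m (by rw [neg_one_smul, hm])
    rw [act_add, act_add, hq, hm, act_smul, act_reflection_self,
      act_reflection_of_ortho hmQ ((polar_comm' Q _ _).trans (polar_eigen g q m' hq hm')), smul_neg]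
  exfalso
  rw [one_smul] at hp₀ hp₁
  rw [neg_one_smul] at hm₀ hm₁
  rcases hpall with rfl | ⟨rfl, hpspan⟩ <;> rcases hmall with rfl | ⟨rfl, hmspan⟩
  · exact no_split hQ hc hs hp₀ hp₁ hm₀ hm₁ (d := ![1, 2, 1, 2]) np₀ np₁ nm₀ nm₁ op om
      (Or.inr (Or.inr rfl))
  · exact no_split hQ hc hs hp₀ hp₁ hm₀ hm₁ (d := ![1, 2, 1, 1]) np₀ np₁ nm₀ nm₁ op om (Or.inl rfl)
  · exact no_split hQ hc hs hp₀ hp₁ hm₀ hm₁ (d := ![1, 1, 1, 2]) np₀ np₁ nm₀ nm₁ op om
      (Or.inr (Or.inl rfl))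
  · have hsur : Function.Surjective (comb ![p₀, p₁, m₀, m₁]) := by
      intro x
      obtain ⟨q, m, rfl, hq, hm⟩ := hsplit x
      obtain ⟨t, t', rfl⟩ := hpspan q (by rw [one_smul, hq])
      obtain ⟨u, u', rfl⟩ := hmspan m (by rw [neg_one_smul, hm])
      exact ⟨![t, t', u, u'], by simp [comb, Fin.sum_univ_four, add_assoc]⟩
    have := Fintype.card_le_of_surjective _ hsur
    simp at this

end CfsgLib.FischerFi22
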