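import Cfsg.Agent.Lib.FischerFi22.ReflClassify

set_option autoImplicit false

/-! The reflection group of discriminant one in dimension six: frame, scalars, missing reflections. -/

namespace CfsgLib.FischerFi22

open QuadraticMap (polar)
open CfsgLib.OrthSpinor Subgroup

variable {Q : QuadraticForm (ZMod 3) (Fin 6 → ZMod 3)} {c : ZMod 3}

theorem gram_eq (w : Fin 6 → Fin 6 → ZMod 3) :
    (Matrix.of fun i j => polar (⇑Q) (w i) (w j)) =
      Matrix.of w * (Matrix.of fun i j : Fin 6 =>
        polar (⇑Q) (Pi.single i 1) (Pi.single j 1)) * (Matrix.of w).transpose := by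
  ext i j
  simp only [Matrix.mul_apply, Matrix.transpose_apply, Matrix.of_apply, Finset.sum_mul]
  show QuadraticMap.polarBilin Q (w i) (w j) = _
  conv_lhs => rw [pi_eq_sum_univ' (w i), pi_eq_sum_univ' (w j)]
  simp only [map_sum, map_smul, LinearMap.sum_apply, LinearMap.smul_apply, smul_eq_mul,
    QuadraticMap.polarBilin_apply_apply]
  refine Finset.sum_congr rfl fun l _ => ?_
  rw [Finset.mul_sum]
  exact Finset.sum_congr rfl fun k _ => by ring

theorem exists_frame (hQ : (QuadraticMap.polarBilin Q).Nondegenerate) (hc : c ≠ 0)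
    (hμ : Cfsg.polarGramDet (⇑Q) = 1) :
    ∃ w : Fin 6 → Fin 6 → ZMod 3, OrthSys Q c (fun _ => 1) w := by
  have grow : ∀ {k : ℕ} (p : Fin k → Fin 6 → ZMod 3) (v : Fin 6 → ZMod 3),
      (∀ i j, i ≠ j → polar (⇑Q) (p i) (p j) = 0) → (∀ i, polar (⇑Q) (p i) v = 0) →
      ∀ i j, i ≠ j → polar (⇑Q) ((Fin.snoc p v : Fin (k + 1) → _) i)
        ((Fin.snoc p v : Fin (k + 1) → _) j) = 0 := by
    intro k p v hp hv i j hij
    induction i using Fin.lastCases with
    | last =>
      induction j using Fin.lastCases with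
      | last => exact absurd rfl hij
      | cast j => simpa [polar_comm' Q v] using hv j
    | cast i =>
      induction j using Fin.lastCases with
      | last => simpa using hv i
      | cast j => simpa using hp i j fun e => hij (by rw [e])
  have five : ∀ k ≤ 5, ∃ p : Fin k → Fin 6 → ZMod 3,
      (∀ i, Q (p i) = c) ∧ ∀ i j, i ≠ j → polar (⇑Q) (p i) (p j) = 0 := by
    intro k hk
    induction k with
    | zero => exact ⟨Fin.elim0, fun i => i.elim0, fun i => i.elim0⟩
    | succ k ih =>
      obtain ⟨p, hp, hpp⟩ := ih (by omega)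
      obtain ⟨v, hv, hvo⟩ := CfsgLib.OrthReflThree.exists_ortho_norm hQ p
        (fun i => by rw [hp i]; exact hc) hpp (by omega) c
      refine ⟨Fin.snoc p v, fun i => ?_, grow p v hpp hvo⟩
      induction i using Fin.lastCases <;> simp [hv, hp]
  obtain ⟨p, hp, hpp⟩ := five 5 le_rfl
  obtain ⟨v, hv, hvo⟩ := exists_ortho_anisotropic (by decide : (2 : ZMod 3) ≠ 0) hQ p
    (fun i => by rw [hp i]; exact hc) hpp (by rw [Fintype.card_fin]; norm_num)
  set w : Fin 6 → Fin 6 → ZMod 3 := Fin.snoc p v with hw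
  have hwo := grow p v hpp hvo
  have hdet := congrArg Matrix.det (gram_eq (Q := Q) w)
  have hdiag : (Matrix.of fun i j => polar (⇑Q) (w i) (w j)) =
      Matrix.diagonal fun i => 2 * Q (w i) := by
    ext i j
    rcases eq_or_ne i j with rfl | hij
    · simp [polar_self3]
    · simp [Matrix.diagonal_apply_ne _ hij, hw, hwo i j hij]
  have hstd : (Matrix.of fun i j : Fin 6 =>
      polar (⇑Q) (Pi.single i 1) (Pi.single j 1)).det = 1 := hμ
  rw [hdiag, Matrix.det_diagonal, Matrix.det_mul, Matrix.det_mul, Matrix.det_transpose, hstd,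
    mul_one] at hdet
  have hprod : (∏ i, 2 * Q (w i)) = (2 * c) ^ 5 * (2 * Q v) := by
    rw [Fin.prod_univ_castSucc]
    simp only [hw, Fin.snoc_castSucc, Fin.snoc_last, hp, Finset.prod_const, Finset.card_univ,
      Fintype.card_fin]
  rw [hprod] at hdet
  have key : ∀ q c D : ZMod 3, q ≠ 0 → c ≠ 0 → (2 * c) ^ 5 * (2 * q) = D * D → q = c := by decide
  have hqc := key _ _ _ hv hc hdet
  refine ⟨w, fun i => ?_, hwo⟩
  rw [mul_one]
  induction i using Fin.lastCases with
  | last => rw [hw, Fin.snoc_last, hqc]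
  | cast j => rw [hw, Fin.snoc_castSucc, hp]

theorem OrthSys.comb_bijective {w : Fin 6 → Fin 6 → ZMod 3} (h : OrthSys Q c (fun _ => 1) w)
    (hc : c ≠ 0) : Function.Bijective (comb w) :=
  have hinj := h.comb_injective hc fun _ => one_ne_zero
  ⟨hinj, Finite.injective_iff_surjective.1 hinj⟩

/-- The negation. -/
def negCoord (x : Fin 6 → ZMod 3) : Fin 6 → ZMod 3 := -x

/-- A coordinate vector. -/
def unitVec (i : Fin 6) : Fin 6 → ZMod 3 := Pi.single i 1

theorem exists_negOne {w : Fin 6 → Fin 6 → ZMod 3} (h : OrthSys Q c (fun _ => 1) w) (hc : c ≠ 0) :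
    ∃ m ∈ Cfsg.reflectionSubgroup (⇑Q) c, ∀ x, act Q m x = -x := by
  have hn : ∀ i, Q (comb w (unitVec i)) = c := fun i => by
    rw [unitVec, comb_single, h.norm, mul_one]
  refine ⟨refl hc (hn 0) * refl hc (hn 1) * refl hc (hn 2) * refl hc (hn 3) * refl hc (hn 4) *
    refl hc (hn 5), ?_, fun x => ?_⟩
  · exact mul_mem (mul_mem (mul_mem (mul_mem (mul_mem (refl_mem hc _) (refl_mem hc _))
      (refl_mem hc _)) (refl_mem hc _)) (refl_mem hc _)) (refl_mem hc _)
  · have hA := ((((h.acts_refl hc (hn 0)).mul (h.acts_refl hc (hn 1))).mul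
      (h.acts_refl hc (hn 2))).mul (h.acts_refl hc (hn 3))).mul (h.acts_refl hc (hn 4))
    have hB := hA.mul (h.acts_refl hc (hn 5))
    obtain ⟨y, rfl⟩ := (h.comb_bijective hc).2 x
    rw [hB, ← comb_neg]
    congr 1
    have h3 : ∀ t : ZMod 3, t - 2 * t = -t := by decide
    funext j
    fin_cases j <;>
      simp [sRefl, diagPolar, unitVec, Fin.sum_univ_six, h3, Pi.single_apply]

/-- Reflections of the other norm do not belong. -/
theorem reflection_not_mem (hQ : (QuadraticMap.polarBilin Q).Nondegenerate) (hc : c ≠ 0)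
    {v : Fin 6 → ZMod 3} (hv : Q v ≠ 0) (hvc : Q v ≠ c) :
    reflection hv ∉ Cfsg.reflectionSubgroup (⇑Q) c := by
  intro hmem
  set R := Cfsg.reflectionSubgroup (⇑Q) c with hR
  have hidx := CfsgLib.OrthReflThree.index_reflectionSubgroup (n := 6) (by norm_num) hQ hc
  have hN : R.Normal := Subgroup.normal_of_index_eq_two hidx
  have htop : R = ⊤ := by
    rw [eq_top_iff, ← closure_reflections (by decide : (2 : ZMod 3) ≠ 0) hQ, closure_le]
    rintro g ⟨u, hu, rfl⟩
    rcases norm_cases (Q u) c hc hu with h | h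
    · exact refl_mem hc h
    · have hv' : Q v = -c := (norm_cases (Q v) c hc hv).resolve_left hvc
      obtain ⟨k, hk⟩ := reflection_conjugate (by decide : (2 : ZMod 3) ≠ 0) hv hu (hv'.trans h.symm)
      rw [SetLike.mem_coe, ← hk]
      exact hN.conj_mem _ hmem k
  have htop' : (Cfsg.reflectionSubgroup (⇑Q) c).index = 1 := Subgroup.index_eq_one.2 htop
  omega

/-- Central elements act as scalars. -/
theorem center_scalar {w : Fin 6 → Fin 6 → ZMod 3} (h : OrthSys Q c (fun _ => 1) w) (hc : c ≠ 0)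
    {z : OGroup Q} (hz : ∀ v (hv : Q v = c), Commute z (refl hc hv)) :
    (∀ x, act Q z x = x) ∨ ∀ x, act Q z x = -x := by
  have eig : ∀ v, Q v = c → ∃ e : ZMod 3, (e = 1 ∨ e = -1) ∧ act Q z v = e • v := by
    intro v hv
    have h1 : z * refl hc hv * z⁻¹ = refl hc hv := mul_inv_eq_iff_eq_mul.2 (hz v hv).eq
    rw [conj_reflection] at h1
    have h2 := congrArg (fun k => act Q k v) h1
    simp only [act_reflection_self] at h2
    rw [act_reflection, Q_act, hv] at h2
    set t := c⁻¹ * polar (⇑Q) (act Q z v) v with ht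
    have h3 : t • act Q z v = (2 : ZMod 3) • v := by
      rw [sub_eq_iff_eq_add] at h2
      rw [two_smul]
      conv_rhs => arg 1; rw [h2]
      abel
    have ht0 : t ≠ 0 := by
      intro h0
      rw [h0, zero_smul] at h3
      have hv0 : v = 0 := (smul_eq_zero.1 h3.symm).resolve_left (by decide)
      rw [hv0, map_zero] at hv
      exact hc hv.symm
    refine ⟨t * 2, ?_, ?_⟩
    · have : ∀ t : ZMod 3, t ≠ 0 → t * 2 = 1 ∨ t * 2 = -1 := by decide
      exact this t ht0
    · rw [mul_smul, ← h3, smul_smul, CfsgLib.OrthReflThree.sq_one t ht0, one_smul]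
  choose e he hev using fun i => eig (w i) (by rw [h.norm, mul_one])
  have hsum : ∀ x, act Q z (comb w x) = comb w fun i => e i * x i := by
    intro x
    simp only [comb, Fin.sum_univ_six, act_add, act_smul, hev, smul_smul, mul_comm]
  have four : ∀ x : Fin 6 → ZMod 3, 2 * diagPolar (fun _ => 1) x x = 1 →
      ∃ s : ZMod 3, ∀ i, e i * x i = s * x i := by
    intro x hx
    obtain ⟨s, -, hs⟩ := eig (comb w x) (by rw [h.Q_comb, hx, mul_one])
    rw [hsum, ← comb_smul] at hs
    exact ⟨s, fun i => congrFun ((h.comb_bijective hc).1 hs) i⟩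
  obtain ⟨s, hs⟩ := four ![1, 1, 1, 1, 0, 0] (by decide)
  obtain ⟨s', hs'⟩ := four ![0, 0, 1, 1, 1, 1] (by decide)
  have a0 : e 0 = s := by simpa using hs 0
  have a1 : e 1 = s := by simpa using hs 1
  have a2 : e 2 = s := by simpa using hs 2
  have a3 : e 3 = s := by simpa using hs 3
  have b2 : e 2 = s' := by simpa using hs' 2
  have b4 : e 4 = s' := by simpa using hs' 4
  have b5 : e 5 = s' := by simpa using hs' 5
  have hall : ∀ i, e i = e 2 := fun i => by
    fin_cases i
    exacts [a0.trans a2.symm, a1.trans a2.symm, rfl, a3.trans a2.symm, b4.trans b2.symm,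
      b5.trans b2.symm]
  have hall' : ∀ x, act Q z x = e 2 • x := by
    intro x
    obtain ⟨y, rfl⟩ := (h.comb_bijective hc).2 x
    rw [hsum, ← comb_smul]
    congr 1
    funext i
    rw [hall i]; rfl
  rcases he 2 with h2 | h2
  · exact Or.inl fun x => by rw [hall', h2, one_smul]
  · exact Or.inr fun x => by rw [hall', h2, neg_one_smul]

end CfsgLib.FischerFi22
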