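import Cfsg.Agent.Lib.ThreeTransp.OrthReflection

set_option autoImplicit false

/-! Elements of a reflection group over the field with three elements whose image modulo the centre
behaves like a transposition are reflections. -/

namespace CfsgLib.FischerFi22

open QuadraticMap (polar)
open CfsgLib.OrthSpinor Subgroup

variable {n : ℕ} {Q : QuadraticForm (ZMod 3) (Fin n → ZMod 3)} {c : ZMod 3}

/-- The orthogonal group. -/
abbrev OGroup {n : ℕ} (Q : QuadraticForm (ZMod 3) (Fin n → ZMod 3)) : Type :=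
  ↥(Cfsg.isometryGroup (ZMod 3) (⇑Q))

/-- Coordinates of vectors with an orthogonal system of given norms. -/
def comb {k : ℕ} (a : Fin k → Fin n → ZMod 3) (x : Fin k → ZMod 3) : Fin n → ZMod 3 :=
  ∑ i, x i • a i

/-- The form of an orthogonal system of norms `c · d i`, divided by `c`. -/
def diagPolar {k : ℕ} (d x y : Fin k → ZMod 3) : ZMod 3 := ∑ i, 2 * (d i * (x i * y i))

theorem polar_self3 (x : Fin n → ZMod 3) : polar (⇑Q) x x = 2 * Q x := polar_self' Q x

theorem Q_eq_of_polar (x : Fin n → ZMod 3) : Q x = 2 * polar (⇑Q) x x := by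
  rw [polar_self3]
  have h3 : (3 : ZMod 3) = 0 := by decide
  linear_combination -(Q x) * h3

/-- An orthogonal system with norms `c · d i`. -/
structure OrthSys {k : ℕ} (Q : QuadraticForm (ZMod 3) (Fin n → ZMod 3)) (c : ZMod 3)
    (d : Fin k → ZMod 3) (a : Fin k → Fin n → ZMod 3) : Prop where
  norm : ∀ i, Q (a i) = c * d i
  orth : ∀ i j, i ≠ j → polar (⇑Q) (a i) (a j) = 0

variable {k : ℕ} {d : Fin k → ZMod 3} {a : Fin k → Fin n → ZMod 3}

theorem OrthSys.polar_comb (h : OrthSys Q c d a) (x : Fin k → ZMod 3) (i : Fin k) :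
    polar (⇑Q) (comb a x) (a i) = c * (2 * (d i * x i)) := by
  show QuadraticMap.polarBilin Q (∑ j, x j • a j) (a i) = _
  rw [map_sum, LinearMap.sum_apply, Finset.sum_eq_single i]
  · simp only [map_smul, LinearMap.smul_apply, QuadraticMap.polarBilin_apply_apply, smul_eq_mul,
      polar_self3, h.norm]
    ring
  · intro j _ hji
    simp [h.orth j i hji]
  · simp

theorem OrthSys.polar_comb_comb (h : OrthSys Q c d a) (x y : Fin k → ZMod 3) :
    polar (⇑Q) (comb a x) (comb a y) = c * diagPolar d x y := by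
  rw [show polar (⇑Q) (comb a x) (comb a y) =
    QuadraticMap.polarBilin Q (comb a x) (∑ j, y j • a j) from rfl, map_sum]
  simp only [map_smul, QuadraticMap.polarBilin_apply_apply, h.polar_comb, smul_eq_mul, diagPolar,
    Finset.mul_sum]
  exact Finset.sum_congr rfl fun i _ => by ring

theorem OrthSys.Q_comb (h : OrthSys Q c d a) (x : Fin k → ZMod 3) :
    Q (comb a x) = c * (2 * diagPolar d x x) := by
  rw [Q_eq_of_polar, h.polar_comb_comb]; ring

theorem OrthSys.comb_injective (h : OrthSys Q c d a) (hc : c ≠ 0) (hd : ∀ i, d i ≠ 0) :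
    Function.Injective (comb a) := by
  intro x y he
  funext i
  have h1 := h.polar_comb x i
  rw [he, h.polar_comb y i] at h1
  exact (mul_left_cancel₀ (hd i) (mul_left_cancel₀ (show (2 : ZMod 3) ≠ 0 by decide)
    (mul_left_cancel₀ hc h1))).symm

theorem comb_add (a : Fin k → Fin n → ZMod 3) (x y : Fin k → ZMod 3) :
    comb a (x + y) = comb a x + comb a y := by
  simp [comb, add_smul, Finset.sum_add_distrib]

theorem comb_smul (a : Fin k → Fin n → ZMod 3) (t : ZMod 3) (x : Fin k → ZMod 3) :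
    comb a (t • x) = t • comb a x := by
  simp [comb, mul_smul, Finset.smul_sum]

theorem comb_neg (a : Fin k → Fin n → ZMod 3) (x : Fin k → ZMod 3) :
    comb a (-x) = -comb a x := by
  simp [comb]

theorem comb_single (a : Fin k → Fin n → ZMod 3) (i : Fin k) :
    comb a (Pi.single i 1) = a i := by
  classical
  simp [comb, Pi.single_apply]

/-- `g` acts on the span of the system by `f`. -/
def Acts (a : Fin k → Fin n → ZMod 3) (g : OGroup Q) (f : (Fin k → ZMod 3) → Fin k → ZMod 3) : Prop :=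
  ∀ x, act Q g (comb a x) = comb a (f x)

theorem Acts.mul {g h : OGroup Q} {f f' : (Fin k → ZMod 3) → Fin k → ZMod 3} (hg : Acts a g f)
    (hh : Acts a h f') : Acts a (g * h) (f ∘ f') := fun x => by
  rw [act_mul, hh, hg]; rfl

theorem Acts.inv {g : OGroup Q} {f f' : (Fin k → ZMod 3) → Fin k → ZMod 3} (hg : Acts a g f)
    (hff : ∀ x, f (f' x) = x) : Acts a g⁻¹ f' := fun x => by
  conv_lhs => rw [← hff x, ← hg]
  rw [act_inv_act Q]

/-- The reflection in a vector of norm `c`. -/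
abbrev refl (hc : c ≠ 0) {v : Fin n → ZMod 3} (hv : Q v = c) : OGroup Q :=
  CfsgLib.OrthSpinor.reflection (v := v) (hv ▸ hc)

theorem refl_mem (hc : c ≠ 0) {v : Fin n → ZMod 3} (hv : Q v = c) :
    refl hc hv ∈ Cfsg.reflectionSubgroup (⇑Q) c :=
  subset_closure ⟨v, hv, rfl⟩

theorem inv_self_three : ∀ c : ZMod 3, c ≠ 0 → c⁻¹ = c := fun c hc =>
  inv_eq_of_mul_eq_one_right (CfsgLib.OrthReflThree.sq_one c hc)

theorem act_refl (hc : c ≠ 0) {v : Fin n → ZMod 3} (hv : Q v = c) (x : Fin n → ZMod 3) :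
    act Q (refl hc hv) x = x - (c * polar (⇑Q) v x) • v := by
  rw [act_reflection, hv, inv_self_three c hc]

/-- The reflection in the coordinate vector `w`. -/
def sRefl (d w x : Fin k → ZMod 3) : Fin k → ZMod 3 := x - diagPolar d w x • w

theorem OrthSys.acts_refl (h : OrthSys Q c d a) (hc : c ≠ 0) {w : Fin k → ZMod 3}
    (hw : Q (comb a w) = c) : Acts a (refl hc hw) (sRefl d w) := fun x => by
  rw [act_refl, h.polar_comb_comb, ← mul_assoc, CfsgLib.OrthReflThree.sq_one c hc, one_mul, sRefl,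
    sub_eq_add_neg, sub_eq_add_neg, comb_add, comb_neg, comb_smul]

theorem act_refl_fix (hc : c ≠ 0) {v : Fin n → ZMod 3} (hv : Q v = c) {z : Fin n → ZMod 3}
    (hz : polar (⇑Q) v z = 0) : act Q (refl hc hv) z = z := by
  rw [act_refl, hz, mul_zero, zero_smul, sub_zero]

theorem OrthSys.polar_comb_zero (h : OrthSys Q c d a) {z : Fin n → ZMod 3}
    (hz : ∀ i, polar (⇑Q) (a i) z = 0) (x : Fin k → ZMod 3) : polar (⇑Q) (comb a x) z = 0 := by
  show QuadraticMap.polarBilin Q (∑ j, x j • a j) z = 0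
  rw [map_sum, LinearMap.sum_apply]
  simp [hz]

/-- The witness: the displacement of a product of two reflections has order at least four. -/
def BadPair (d w₁ w₂ x₀ : Fin k → ZMod 3) (f f' : (Fin k → ZMod 3) → Fin k → ZMod 3) : Prop :=
  let M := fun x => f (sRefl d w₁ (sRefl d w₂ (f' (sRefl d w₂ (sRefl d w₁ x)))))
  2 * diagPolar d w₁ w₁ = 1 ∧ 2 * diagPolar d w₂ w₂ = 1 ∧ M (M x₀) ≠ x₀ ∧ M (M (M x₀)) ≠ x₀

/-- An element all of whose displacements have order at most three modulo the scalars. -/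
def SmallDisp (hQc : c ≠ 0) (g : OGroup Q) : Prop :=
  ∀ (v w : Fin n → ZMod 3) (hv : Q v = c) (hw : Q w = c),
    (∀ x, act Q ((g * (refl hQc hv * refl hQc hw) * g⁻¹ * (refl hQc hv * refl hQc hw)⁻¹) ^ 2) x = x) ∨
    (∀ x, act Q ((g * (refl hQc hv * refl hQc hw) * g⁻¹ * (refl hQc hv * refl hQc hw)⁻¹) ^ 2) x = -x) ∨
    (∀ x, act Q ((g * (refl hQc hv * refl hQc hw) * g⁻¹ * (refl hQc hv * refl hQc hw)⁻¹) ^ 3) x = x) ∨
    (∀ x, act Q ((g * (refl hQc hv * refl hQc hw) * g⁻¹ * (refl hQc hv * refl hQc hw)⁻¹) ^ 3) x = -x)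

theorem no_bad (hQ : (QuadraticMap.polarBilin Q).Nondegenerate) {hc : c ≠ 0} {g : OGroup Q}
    (hg : SmallDisp hc g) (h : OrthSys Q c d a) (hd : ∀ i, d i ≠ 0) (hk : k + 2 ≤ n)
    {f f' : (Fin k → ZMod 3) → Fin k → ZMod 3} (hf : Acts a g f) (hff : ∀ x, f (f' x) = x)
    {w₁ w₂ x₀ : Fin k → ZMod 3} (hbad : BadPair d w₁ w₂ x₀ f f') : False := by
  obtain ⟨hn₁, hn₂, h2, h3⟩ := hbad
  have hv : Q (comb a w₁) = c := by rw [h.Q_comb, hn₁, mul_one]
  have hw : Q (comb a w₂) = c := by rw [h.Q_comb, hn₂, mul_one]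
  have hai : ∀ i, Q (a i) ≠ 0 := fun i => by rw [h.norm]; exact mul_ne_zero hc (hd i)
  obtain ⟨z, hzQ, hz⟩ := CfsgLib.OrthReflThree.exists_ortho_norm hQ a hai h.orth hk c
  set K := refl hc hv * refl hc hw with hK
  set M := g * K * g⁻¹ * K⁻¹ with hM
  have hKa : Acts a K (sRefl d w₁ ∘ sRefl d w₂) := (h.acts_refl hc hv).mul (h.acts_refl hc hw)
  have hKinv : Acts a K⁻¹ (sRefl d w₂ ∘ sRefl d w₁) := by
    rw [hK, mul_inv_rev, reflection_inv, reflection_inv]
    exact (h.acts_refl hc hw).mul (h.acts_refl hc hv)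
  have hMa := ((hf.mul hKa).mul (hf.inv hff)).mul hKinv
  rw [← hM] at hMa
  have hfix : ∀ y, (∀ i, polar (⇑Q) (a i) y = 0) → act Q K y = y := fun y hy => by
    rw [hK, act_mul, act_refl_fix hc hw (h.polar_comb_zero hy w₂),
      act_refl_fix hc hv (h.polar_comb_zero hy w₁)]
  have hMz : act Q M z = z := by
    have h1 : ∀ i, polar (⇑Q) (a i) (act Q g⁻¹ z) = 0 := fun i => by
      rw [← polar_act Q g, act_act_inv Q g, ← comb_single a i, hf]
      exact h.polar_comb_zero hz _
    have h2' : act Q K⁻¹ z = z := by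
      conv_lhs => rw [← hfix z hz]
      rw [act_inv_act Q]
    rw [hM, act_mul, act_mul, act_mul, h2', hfix _ h1, act_act_inv]
  have hz0 : z ≠ -z := by
    intro he
    have h4 : Q z = 0 := by
      have h5 : z = 0 := by
        funext i
        have h6 : ∀ t : ZMod 3, t = -t → t = 0 := by decide
        exact h6 _ (congrFun he i)
      rw [h5, map_zero]
    exact hc (hzQ.symm.trans h4)
  have key : ∀ m : ℕ, m = 2 ∨ m = 3 →
      ¬ ((∀ x, act Q (M ^ m) x = x) ∨ ∀ x, act Q (M ^ m) x = -x) := by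
    rintro m hm (hall | hall)
    · have e := hall (comb a x₀)
      rcases hm with rfl | rfl
      · rw [pow_two, (hMa.mul hMa)] at e
        exact h2 (h.comb_injective hc hd e)
      · rw [pow_succ, pow_two, ((hMa.mul hMa).mul hMa)] at e
        exact h3 (h.comb_injective hc hd e)
    · refine hz0 (Eq.trans ?_ (hall z))
      rcases hm with rfl | rfl <;> simp only [pow_succ, pow_zero, one_mul, act_mul, hMz]
  rcases hg _ _ hv hw with h1 | h1 | h1 | h1
  · exact key 2 (Or.inl rfl) (Or.inl h1)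
  · exact key 2 (Or.inl rfl) (Or.inr h1)
  · exact key 3 (Or.inr rfl) (Or.inl h1)
  · exact key 3 (Or.inr rfl) (Or.inr h1)

end CfsgLib.FischerFi22
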