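import Cfsg.Agent.Lib.FischerFi22.Diag
import Cfsg.Agent.Lib.FischerFi22.E7Cert
import Cfsg.Agent.Lib.FischerFi22.E6Cert

set_option autoImplicit false

/-! The three further relations of `Y332` hold in a group of type M(22). -/

namespace CfsgLib.FischerFi22

open Subgroup
open CfsgLib.Classical.Herm HermSpace
open CfsgLib.ThreeTrans (link mul_self inv_eq commute_conj_iff' conj_self_of_commute braid
  cube_eq_one)
open CfsgLib.CosetEnum (linv scan invWord)

universe u

variable {G : Type u} [Group G] {D : Set G} {F : Type} [Field F] [Fintype F]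
  {hF : Fintype.card F = 2 ^ 2} {P P' : (Fin 6 → F) → G → Prop}
  {Q Q' : QuadraticForm (ZMod 3) (Fin 6 → ZMod 3)} {c₃ : ZMod 3}
  {R R' : (Fin 6 → ZMod 3) → G → Prop}

/-- The word `(s t)` repeated. -/
def coxWord (s t m : ℕ) : List ℕ := (List.replicate m [s, t]).flatten

theorem prod_coxWord (g : ℕ → G) (s t m : ℕ) :
    ((coxWord s t m).map g).prod = (g s * g t) ^ m := by
  induction m with
  | zero => simp [coxWord]
  | succ m ih =>
    rw [pow_succ', ← ih]
    simp [coxWord, List.replicate_succ, mul_assoc]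

theorem prod_flatten_replicate (g : ℕ → G) (l : List ℕ) (m : ℕ) :
    (((List.replicate m l).flatten).map g).prod = (l.map g).prod ^ m := by
  induction m with
  | zero => simp
  | succ m ih =>
    rw [List.replicate_succ, List.flatten_cons, List.map_append, List.prod_append, ih, pow_succ']

/-- Conjugating a member by two others commuting suitably. -/
theorem commute_nested {x y q : G} (hb : y * x * y = x * y * x) (hq : Commute y q) :
    Commute x (y * x * q * x * y) := by
  show x * (y * x * q * x * y) = y * x * q * x * y * x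
  calc x * (y * x * q * x * y) = (x * y * x) * q * (x * y) := by simp only [mul_assoc]
    _ = (y * x * y) * q * (x * y) := by rw [hb]
    _ = y * x * (y * q) * (x * y) := by simp only [mul_assoc]
    _ = y * x * (q * y) * (x * y) := by rw [hq.eq]
    _ = y * x * q * (y * x * y) := by simp only [mul_assoc]
    _ = y * x * q * (x * y * x) := by rw [hb]
    _ = y * x * q * x * y * x := by simp only [mul_assoc]

variable {x : Fin 9 → G}

theorem Diag.braid' (hset : Cfsg.IsThreeTranspositionSet D) (H : Diag D x) (i j : Fin 9)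
    (h : y332 i j = true) : x i * x j * x i = x j * x i * x j :=
  braid hset (H.mem i) (H.mem j) (H.nc i j h)

theorem mem_closure_link {a y : G} (hself : a ∈ closure (link D a)) (hy : y ∈ D)
    (hc : Commute a y) : y ∈ closure (link D a) := by
  by_cases h : y = a
  · rw [h]; exact hself
  · exact subset_closure ⟨hy, h, hc⟩

theorem not_commute_mul_self (hset : Cfsg.IsThreeTranspositionSet D) {p s t : G} (hp : p ∈ D)
    (hs : s ∈ D) (ht : t ∈ link D p) (hps : ¬ Commute p s) (h : Commute (t * p) s) : False := by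
  have hpp := mul_self hset hp
  have htt := mul_self hset ht.1
  have h1 : p * s * p = t * s * t := by
    calc p * s * p = t * (t * p * s) * p := by rw [← mul_assoc t, ← mul_assoc t, htt, one_mul]
      _ = t * (s * (t * p)) * p := by rw [h.eq]
      _ = t * s * t * (p * p) := by simp only [mul_assoc]
      _ = t * s * t := by rw [hpp, mul_one]
  by_cases hts : Commute t s
  · refine hps ?_
    have h2 : p * s * p = s := by rw [h1, hts.eq, mul_assoc, htt, mul_one]
    show p * s = s * p
    calc p * s = p * s * (p * p) := by rw [hpp, mul_one]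
      _ = p * s * p * p := by rw [← mul_assoc]
      _ = s * p := by rw [h2]
  · have b1 := braid hset hp hs hps
    have b2 := braid hset ht.1 hs hts
    rw [b1, b2] at h1
    exact ht.2.1 (mul_left_cancel (mul_right_cancel h1)).symm

theorem conj_step {a s t U : G} (hs : s * s = 1) (ht : t * t = 1) (hb : t * s * t = s * t * s)
    (hU : U⁻¹ * a * U = s) : (U * t * s)⁻¹ * a * (U * t * s) = t := by
  have e1 : s⁻¹ = s := inv_eq_of_mul_eq_one_left hs
  have e2 : t⁻¹ = t := inv_eq_of_mul_eq_one_left ht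
  calc (U * t * s)⁻¹ * a * (U * t * s) = s⁻¹ * t⁻¹ * (U⁻¹ * a * U) * t * s := by group
    _ = s * (t * s * t) * s := by rw [hU, e1, e2]; simp only [mul_assoc]
    _ = (s * s) * t * (s * s) := by rw [hb]; simp only [mul_assoc]
    _ = t := by rw [hs, one_mul, mul_one]

theorem conj_commute {U z a : G} (h : Commute (U * z * U⁻¹) a) : Commute z (U⁻¹ * a * U) := by
  have := (commute_conj_iff' U⁻¹ (U * z * U⁻¹) a).2 h
  simpa [mul_assoc] using this

theorem hinv_of_letters {g : ℕ → G} {ip : ℕ} (hip : ∀ x < 16, linv ip x = x)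
    (hg : ∀ x < 16, g x * g x = 1) : ∀ x < 16, g (linv ip x) = (g x)⁻¹ := fun x hx => by
  rw [hip x hx]; exact (inv_eq_of_mul_eq_one_left (hg x hx)).symm

/-- Letters from seven nodes. -/
def letter7 (x : Fin 9 → G) (σ : Fin 7 → Fin 9) : ℕ → G := fun n =>
  if h : n < 7 then x (σ ⟨n, h⟩) else 1

theorem letter7_sq (hset : Cfsg.IsThreeTranspositionSet D) (H : Diag D x) (σ : Fin 7 → Fin 9)
    (n : ℕ) : letter7 x σ n * letter7 x σ n = 1 := by
  unfold letter7
  split
  · exact mul_self hset (H.mem _)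
  · exact one_mul 1

theorem letter7_cox (hset : Cfsg.IsThreeTranspositionSet D) (H : Diag D x) (σ : Fin 7 → Fin 9)
    (l : List ℕ)
    (hl : ∃ i j : Fin 7, (i = j ∧ l = coxWord i j 1) ∨
      (i ≠ j ∧ y332 (σ i) (σ j) = false ∧ l = coxWord i j 2) ∨
      (y332 (σ i) (σ j) = true ∧ l = coxWord i j 3)) :
    (l.map (letter7 x σ)).prod = 1 := by
  obtain ⟨i, j, hl⟩ := hl
  have e : ∀ i : Fin 7, letter7 x σ i = x (σ i) := fun i => by simp [letter7, i.isLt]
  rcases hl with ⟨rfl, rfl⟩ | ⟨-, h, rfl⟩ | ⟨h, rfl⟩ <;> simp only [prod_coxWord, e]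
  · rw [pow_one]; exact mul_self hset (H.mem _)
  · exact (CfsgLib.ThreeTrans.commute_iff_sq hset (H.mem _) (H.mem _)).1 (H.comm _ _ h)
  · exact cube_eq_one hset (H.mem _) (H.mem _) (H.nc _ _ h)

/-- The nodes of the sub-diagram of type `E7`. -/
def nodeE7 : Fin 7 → Fin 9 := ![0, 1, 2, 3, 4, 5, 7]

/-- The nodes of the sub-diagram of type affine `E6`. -/
def nodeE6 : Fin 7 → Fin 9 := ![1, 2, 3, 4, 5, 7, 8]

theorem e7_rels : ∀ l ∈ E7Cert.rels, ∃ i j : Fin 7, (i = j ∧ l = coxWord i j 1) ∨
    (i ≠ j ∧ y332 (nodeE7 i) (nodeE7 j) = false ∧ l = coxWord i j 2) ∨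
    (y332 (nodeE7 i) (nodeE7 j) = true ∧ l = coxWord i j 3) := by decide +kernel

/-- The highest root word of the sub-diagram of type `E6`, as letters of the affine diagram. -/
def xWord : List ℕ := [1, 2, 5, 6, 3, 2, 5, 4, 3, 2, 1, 2, 3, 4, 5, 2, 3, 6, 5, 2, 1]

theorem e6_rels : ∀ l ∈ E6Cert.rels, l = (List.replicate 3 (0 :: xWord)).flatten ∨
    ∃ i j : Fin 7, (i = j ∧ l = coxWord i j 1) ∨
    (i ≠ j ∧ y332 (nodeE6 i) (nodeE6 j) = false ∧ l = coxWord i j 2) ∨
    (y332 (nodeE6 i) (nodeE6 j) = true ∧ l = coxWord i j 3) := by decide +kernel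

theorem e7_ip : ∀ x < 16, linv E7Cert.ip x = x := by decide +kernel

theorem e6_ip : ∀ x < 16, linv E6Cert.ip x = x := by decide +kernel

theorem word_mem7 (g : ℕ → G) {l : List ℕ} {H : Subgroup G}
    (h : ∀ l' ∈ [l], (l'.map g).prod ∈ H) : (l.map g).prod ∈ H := h l (by simp)

/-- The words moving the first node of `E7` to the others. -/
def moveE7 : List (List ℕ) :=
  [[], [1, 0], [1, 0, 2, 1], [1, 0, 2, 1, 3, 2], [1, 0, 2, 1, 3, 2, 4, 3],
    [1, 0, 2, 1, 3, 2, 4, 3, 5, 4], [1, 0, 2, 1, 3, 2, 6, 3]]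

/-- The words moving the first node of affine `E6` to the others. -/
def moveE6 : List (List ℕ) :=
  [[], [1, 0], [1, 0, 2, 1], [1, 0, 2, 1, 3, 2], [1, 0, 2, 1, 3, 2, 4, 3],
    [1, 0, 2, 1, 5, 2], [1, 0, 2, 1, 5, 2, 6, 5]]

theorem e7_scan : ∀ u ∈ moveE7, (u ++ E7Cert.zWord ++ u.reverse).all (fun x => decide (x < 7)) = true ∧
    Nat.beq (scan E7Cert.cert.T (u ++ E7Cert.zWord ++ u.reverse) 0) 0 = true := by decide +kernel

theorem e6_scan : ∀ u ∈ moveE6, (u ++ E6Cert.zWord ++ u.reverse).all (fun x => decide (x < 7)) = true ∧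
    Nat.beq (scan E6Cert.cert.T (u ++ E6Cert.zWord ++ u.reverse) 0) 0 = true := by decide +kernel

theorem prod_conj_word (g : ℕ → G) (hg : ∀ n, g n * g n = 1) (u w : List ℕ) :
    ((u ++ w ++ u.reverse).map g).prod = (u.map g).prod * (w.map g).prod * (u.map g).prod⁻¹ := by
  rw [List.map_append, List.map_append, List.prod_append, List.prod_append]
  congr 1
  induction u with
  | nil => simp
  | cons y u ih =>
    rw [List.reverse_cons, List.map_append, List.prod_append, ih, List.map_cons (l := u),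
      List.prod_cons, mul_inv_rev, inv_eq_of_mul_eq_one_left (hg y)]
    simp

/-- The conjugate of `d` by a word lies in the link and has the reflected coordinates. -/
theorem UFrame.coord_word {a : G} {y : Fin 6 → G} {v : Fin 6 → Fin 6 → F}
    (W : UFrame hF P y v) (U : Uni hF D a P) (l : List (G × (Fin 6 → ZMod 2)))
    (hl : ∀ p ∈ l, Coord hF P v p.2 p.1) {s : G} {z : Fin 6 → ZMod 2} (hs : Coord hF P v z s) :
    Coord hF P v (l.foldr (fun p w => w + pathBil w p.2 • p.2) z)
      (l.foldr (fun p w => p.1 * w * p.1⁻¹) s) := by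
  induction l with
  | nil => exact hs
  | cons p l ih =>
    exact W.reflect U (ih fun q hq => hl q (List.mem_cons_of_mem _ hq)) (hl p (by simp))

variable [Finite G]

/-- The relation of a sub-diagram of type `E7`. -/
theorem e7_relation (hset : Cfsg.IsThreeTranspositionSet D) (hconj : ∀ g : G, ∀ d ∈ D, g * d * g⁻¹ ∈ D)
    (H : Diag D x) (U : Uni hF D (x 0) P)
    (hR : Refl Q c₃ (link D (x 0) ∩ link D (x 1)) R) :
    (x 0 * x 1 * x 2 * x 3 * x 4 * x 5 * x 7) ^ 9 = 1 := by
  set g := letter7 x nodeE7 with hg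
  have hsq : ∀ n, g n * g n = 1 := letter7_sq hset H nodeE7
  have e0 : g 0 = x 0 := by simp [hg, letter7, nodeE7]
  have e1 : g 1 = x 1 := by simp [hg, letter7, nodeE7]
  have e2 : g 2 = x 2 := by simp [hg, letter7, nodeE7]
  have e3 : g 3 = x 3 := by simp [hg, letter7, nodeE7]
  have e4 : g 4 = x 4 := by simp [hg, letter7, nodeE7]
  have e5 : g 5 = x 5 := by simp [hg, letter7, nodeE7]
  have e6 : g 6 = x 7 := by simp [hg, letter7, nodeE7]
  set z := (E7Cert.zWord.map g).prod with hzdef
  have hz : (x 0 * x 1 * x 2 * x 3 * x 4 * x 5 * x 7) ^ 9 = z := by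
    rw [hzdef, show E7Cert.zWord = (List.replicate 9 [0, 1, 2, 3, 4, 5, 6]).flatten by decide +kernel,
      prod_flatten_replicate]
    simp [e0, e1, e2, e3, e4, e5, e6, mul_assoc]
  rw [hz]
  set K := closure (link D (x 0)) with hK
  have hxK : ∀ i : Fin 9, y332 0 i = false → x i ∈ K := fun i hi =>
    mem_closure_link U.self_mem (H.mem i) (H.comm 0 i hi)
  -- the member completing the subgroup
  set q3 := x 4 * x 3 * x 7 * x 3 * x 4 with hq3
  set q4 := x 3 * x 2 * q3 * x 2 * x 3 with hq4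
  set q5 := x 2 * x 1 * q4 * x 1 * x 2 with hq5
  set p6 := x 1 * x 0 * q5 * x 0 * x 1 with hp6
  have c3 : Commute (x 3) q3 :=
    commute_nested (H.braid' hset 4 3 (by decide)) (H.comm 4 7 (by decide))
  have c2 : Commute (x 2) q4 := commute_nested (H.braid' hset 3 2 (by decide)) c3
  have c1 : Commute (x 1) q5 := commute_nested (H.braid' hset 2 1 (by decide)) c2
  have c0 : Commute (x 0) p6 := commute_nested (H.braid' hset 1 0 (by decide)) c1
  have cc : ∀ (i : Fin 9) {y : G}, y ∈ D → x i * y * x i ∈ D := fun i y hy => by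
    have := hconj (x i) y hy
    rwa [inv_eq hset (H.mem i)] at this
  have hpD : p6 ∈ D := by
    have h := cc 1 (cc 0 (cc 2 (cc 1 (cc 3 (cc 2 (cc 4 (cc 3 (H.mem 7))))))))
    simpa only [hp6, hq5, hq4, hq3, mul_assoc] using h
  have hsub : ∀ l ∈ E7Cert.subWords, (∀ n ∈ l, n < 16) ∧ (l.map g).prod ∈ K := by
    intro l hl
    refine ⟨(show ∀ l ∈ E7Cert.subWords, ∀ n ∈ l, n < 16 by decide +kernel) l hl, ?_⟩
    simp only [E7Cert.subWords, List.mem_cons, List.not_mem_nil, or_false] at hl
    rcases hl with rfl | rfl | rfl | rfl | rfl | rfl | rfl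
    · simpa [e0] using U.self_mem
    · simpa [e2] using hxK 2 (by decide)
    · simpa [e3] using hxK 3 (by decide)
    · simpa [e4] using hxK 4 (by decide)
    · simpa [e5] using hxK 5 (by decide)
    · simpa [e6] using hxK 7 (by decide)
    · have hb := H.braid' hset 7 3 (by decide)
      have : p6 ∈ K := mem_closure_link U.self_mem hpD c0
      simp only [List.map_cons, List.map_nil, List.prod_cons, List.prod_nil, mul_one, e0, e1, e2,
        e3, e4, e6]
      convert this using 1
      simp only [hp6, hq5, hq4, hq3, mul_assoc]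
      rw [← mul_assoc (x 7) (x 3), ← mul_assoc (x 7 * x 3) (x 7), hb]
      simp only [mul_assoc]
  have hmove : ∀ u ∈ moveE7, (u.map g).prod * z * (u.map g).prod⁻¹ ∈ K := by
    intro u hu
    obtain ⟨hlt, hscan⟩ := e7_scan u hu
    simp only [List.all_eq_true, decide_eq_true_eq] at hlt
    rw [hzdef, ← prod_conj_word g hsq]
    refine prod_mem_of_scan (ip := E7Cert.ip) (by simp [hg, letter7])
      (hinv_of_letters e7_ip fun n _ => hsq n) K E7Cert.cert E7Cert.cert_ok (fun l hl => ?_) hsub hlt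
      hscan
    exact ⟨(show ∀ l ∈ E7Cert.rels, ∀ n ∈ l, n < 16 by decide +kernel) l hl,
      letter7_cox hset H nodeE7 l (e7_rels l hl)⟩
  have hzK : z ∈ K := by
    have := hmove [] (by decide)
    simpa using this
  have hcen : ∀ y ∈ K, Commute y (x 0) := fun y hy => mem_centralizer_singleton_iff.1
    (CfsgLib.FischerUnique.closure_link_le_centralizer hy)
  have hzc : ∀ u ∈ moveE7, Commute z ((u.map g).prod⁻¹ * x 0 * (u.map g).prod) := fun u hu =>
    conj_commute (hcen _ (hmove u hu))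
  have u1 := conj_step (a := x 0) (hsq 0) (hsq 1) (t := g 1) (U := 1)
    (by rw [e0, e1]; exact H.braid' hset 1 0 (by decide)) (by simp [e0])
  have u2 := conj_step (hsq 1) (hsq 2) (by rw [e1, e2]; exact H.braid' hset 2 1 (by decide)) u1
  have u3 := conj_step (hsq 2) (hsq 3) (by rw [e2, e3]; exact H.braid' hset 3 2 (by decide)) u2
  have u4 := conj_step (hsq 3) (hsq 4) (by rw [e3, e4]; exact H.braid' hset 4 3 (by decide)) u3
  have u5 := conj_step (hsq 4) (hsq 5) (by rw [e4, e5]; exact H.braid' hset 5 4 (by decide)) u4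
  have u6 := conj_step (hsq 3) (hsq 6) (by rw [e3, e6]; exact H.braid' hset 7 3 (by decide)) u3
  have z1 : Commute z (x 1) := by
    have := hzc [1, 0] (by decide)
    rwa [show ([1, 0].map g).prod = 1 * g 1 * g 0 by simp, u1, e1] at this
  have z2 : Commute z (x 2) := by
    have := hzc [1, 0, 2, 1] (by decide)
    rwa [show ([1, 0, 2, 1].map g).prod = 1 * g 1 * g 0 * g 2 * g 1 by simp [mul_assoc], u2,
      e2] at this
  have z3 : Commute z (x 3) := by
    have := hzc [1, 0, 2, 1, 3, 2] (by decide)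
    rwa [show ([1, 0, 2, 1, 3, 2].map g).prod = 1 * g 1 * g 0 * g 2 * g 1 * g 3 * g 2 by
      simp [mul_assoc], u3, e3] at this
  have z4 : Commute z (x 4) := by
    have := hzc [1, 0, 2, 1, 3, 2, 4, 3] (by decide)
    rwa [show ([1, 0, 2, 1, 3, 2, 4, 3].map g).prod =
      1 * g 1 * g 0 * g 2 * g 1 * g 3 * g 2 * g 4 * g 3 by simp [mul_assoc], u4, e4] at this
  have z5 : Commute z (x 5) := by
    have := hzc [1, 0, 2, 1, 3, 2, 4, 3, 5, 4] (by decide)
    rwa [show ([1, 0, 2, 1, 3, 2, 4, 3, 5, 4].map g).prod =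
      1 * g 1 * g 0 * g 2 * g 1 * g 3 * g 2 * g 4 * g 3 * g 5 * g 4 by simp [mul_assoc], u5,
      e5] at this
  have z7 : Commute z (x 7) := by
    have := hzc [1, 0, 2, 1, 3, 2, 6, 3] (by decide)
    rwa [show ([1, 0, 2, 1, 3, 2, 6, 3].map g).prod =
      1 * g 1 * g 0 * g 2 * g 1 * g 3 * g 2 * g 6 * g 3 by simp [mul_assoc], u6, e6] at this
  -- the five points
  obtain ⟨v, W⟩ := H.exists_frame (Or.inl rfl) U
  have hcc := H.coord_c U W
  have hlam : ∀ f : Unit' (stdHerm hF 6), (∀ {w s}, P w s → P (f.1 w) (z * s * z⁻¹)) →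
      ∃ lam : F, lam ≠ 0 ∧ ∀ i, i ≠ 0 → f.1 (v i) = lam • v i := by
    intro f hf
    obtain ⟨l1, n1, h1⟩ := U.eigen hf (W.pts 1) z7
    obtain ⟨l2, n2, h2⟩ := U.eigen hf (W.pts 2) z3
    obtain ⟨l3, n3, h3⟩ := U.eigen hf (W.pts 3) z4
    obtain ⟨l4, n4, h4⟩ := U.eigen hf (W.pts 4) z5
    obtain ⟨lc, nc, hcl⟩ := U.eigen hf hcc z2
    have q12 : l1 = l2 := eigen_eq n2 h1 h2 (by rw [W.gram]; simp)
    have q32 : l3 = l2 := eigen_eq n2 h3 h2 (by rw [W.gram]; simp)
    have q43 : l4 = l3 := eigen_eq n3 h4 h3 (by rw [W.gram]; simp)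
    have qc2 : lc = l2 := eigen_eq n2 hcl h2 (by
      rw [← vec_single (hF := hF) (v := v) 2, W.h_vec,
        show pathBil ![0, 0, 0, 1, 0, 1] (Pi.single 2 1) = 1 by decide +kernel, map_one]
      exact one_ne_zero)
    rw [q12] at h1
    rw [q32] at h3
    rw [q43, q32] at h4
    rw [qc2] at hcl
    refine ⟨l2, n2, fun i hi => ?_⟩
    fin_cases i
    · exact absurd rfl hi
    · exact h1
    · exact h2
    · exact h3
    · exact h4
    · have hsplit : vec hF v ![0, 0, 0, 1, 0, 1] = v 3 + v 5 := by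
        simp [vec, Fin.sum_univ_six]
      rw [hsplit, map_add, h3, smul_add] at hcl
      exact add_left_cancel hcl
  rcases W.fix_five U hzK 0 ![0, 1, 0, 1, 0, 1] (by decide +kernel) (by decide +kernel) rfl hset hlam
    with h | h | ⟨t, ht, h | h⟩
  · exact h
  · exact absurd (h ▸ z1) (H.nc 0 1 (by decide))
  · exfalso
    have htl : t ∈ link D (x 0) := U.mem ht
    have htb : t ≠ x 1 := fun he => H.nc 0 1 (by decide) (he ▸ htl.2.2)
    have htS : t ∈ link D (x 0) ∩ link D (x 1) := ⟨htl, htl.1, htb, (h ▸ z1).symm⟩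
    have hcom : ∀ i, Commute t (x (pathNode i)) ↔
        pathBil ![0, 1, 0, 1, 0, 1] (Pi.single i 1) = 0 := fun i => W.comm_iff U ht (W.coord i)
    have hmem : ∀ i, x (pathNode i) ∈ link D (x 0) ∩ link D (x 1) := fun i => by
      have key : ∀ i, (0 : Fin 9) ≠ pathNode i ∧ (1 : Fin 9) ≠ pathNode i ∧
        y332 0 (pathNode i) = false ∧ y332 1 (pathNode i) = false := by decide +kernel
      exact ⟨H.mem_link (key i).1 (key i).2.2.1, H.mem_link (key i).2.1 (key i).2.2.2⟩
    refine hR.no_member hmem (fun i j hij => ?_) [1, 2, 3, 4, 5] [0] path_no_end htS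
      (fun i hi => (hcom i).2 ?_) fun i hi hh => ?_
    · have key : ∀ i j : Fin 6, pathAdj i j = 0 ↔ ¬ (i.val + 1 = j.val ∨ j.val + 1 = i.val) := by
        decide +kernel
      exact (H.path_pattern i j hij).trans (key i j).symm
    · revert hi; revert i; decide +kernel
    · rw [List.mem_singleton] at hi
      subst hi
      exact absurd ((hcom 0).1 hh) (by decide +kernel)
  · exact (not_commute_mul_self hset (H.mem 0) (H.mem 1) (U.mem ht) (H.nc 0 1 (by decide))
      (h ▸ z1)).elim

/-- The relation of the sub-diagram of type affine `E6`. -/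
theorem e6_relation (hset : Cfsg.IsThreeTranspositionSet D) (hconj : ∀ g : G, ∀ d ∈ D, g * d * g⁻¹ ∈ D)
    (H : Diag D x) (U : Uni hF D (x 0) P) (U' : Uni hF D (x 1) P')
    (hR : Refl Q c₃ (link D (x 0) ∩ link D (x 1)) R)
    (hR' : Refl Q' c₃ (link D (x 1) ∩ link D (x 2)) R') :
    (x 3 * x 2 * x 1 * x 3 * x 4 * x 5 * x 3 * x 7 * x 8) ^ 10 = 1 := by
  set g := letter7 x nodeE6 with hg
  have hsq : ∀ n, g n * g n = 1 := letter7_sq hset H nodeE6
  have e0 : g 0 = x 1 := by simp [hg, letter7, nodeE6]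
  have e1 : g 1 = x 2 := by simp [hg, letter7, nodeE6]
  have e2 : g 2 = x 3 := by simp [hg, letter7, nodeE6]
  have e3 : g 3 = x 4 := by simp [hg, letter7, nodeE6]
  have e4 : g 4 = x 5 := by simp [hg, letter7, nodeE6]
  have e5 : g 5 = x 7 := by simp [hg, letter7, nodeE6]
  have e6 : g 6 = x 8 := by simp [hg, letter7, nodeE6]
  -- the highest root
  obtain ⟨v, W⟩ := H.exists_frame (Or.inl rfl) U
  have hcc := H.coord_c U W
  let C : Fin 9 → Fin 6 → ZMod 2 := ![0, 0, ![0, 0, 0, 1, 0, 1], Pi.single 2 1, Pi.single 3 1,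
    Pi.single 4 1, Pi.single 5 1, Pi.single 1 1, Pi.single 0 1]
  have hC : ∀ i : Fin 9, 2 ≤ i.val → Coord hF P v (C i) (x i) := by
    intro i hi
    fin_cases i
    · simp at hi
    · simp at hi
    · exact hcc
    · exact W.coord 2
    · exact W.coord 3
    · exact W.coord 4
    · exact W.coord 5
    · exact W.coord 1
    · exact W.coord 0
  let us : List (Fin 9) := [2, 3, 7, 8, 4, 3, 7, 5, 4, 3]
  have husC : ∀ p ∈ us.map fun i => (x i, C i), Coord hF P v p.2 p.1 := by
    intro p hp
    obtain ⟨i, hi, rfl⟩ := List.mem_map.1 hp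
    exact hC i ((show ∀ i ∈ us, 2 ≤ i.val by decide) i hi)
  have hX := W.coord_word U _ husC hcc
  set X := (us.map fun i => (x i, C i)).foldr (fun p w => p.1 * w * p.1⁻¹) (x 2) with hXdef
  set zX := (us.map fun i => (x i, C i)).foldr (fun p w => w + pathBil w p.2 • p.2)
    ![0, 0, 0, 1, 0, 1] with hzX
  have hzXv : zX = us.foldr (fun i w => w + pathBil w (C i) • C i) ![0, 0, 0, 1, 0, 1] := by
    rw [hzX, List.foldr_map]
  have hXe : (xWord.map g).prod = X := by
    simp [xWord, hXdef, us, e1, e2, e3, e4, e5, e6, inv_eq hset (H.mem _), mul_assoc]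
  have hXl : X ∈ link D (x 0) := U.mem hX
  have hXcom : ∀ i : Fin 6, i ≠ 5 → Commute X (x (pathNode i)) := fun i hi =>
    (W.comm_iff U hX (W.coord i)).2 (by rw [hzXv]; revert hi; revert i; decide +kernel)
  have hbX : ¬ Commute (x 1) X := by
    intro hbX
    have hne : X ≠ x 1 := fun he => H.nc 0 1 (by decide) (he ▸ hXl.2.2)
    have hmem : ∀ i, x (pathNode i) ∈ link D (x 0) ∩ link D (x 1) := fun i => by
      have key : ∀ i, (0 : Fin 9) ≠ pathNode i ∧ (1 : Fin 9) ≠ pathNode i ∧
        y332 0 (pathNode i) = false ∧ y332 1 (pathNode i) = false := by decide +kernel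
      exact ⟨H.mem_link (key i).1 (key i).2.2.1, H.mem_link (key i).2.1 (key i).2.2.2⟩
    refine hR.no_member hmem (fun i j hij => ?_) [0, 1, 2, 3, 4] [] path_no_perp
      (z := X) ⟨hXl, hXl.1, hne, hbX⟩ (fun i hi => hXcom i ?_) (fun i hi => by simp at hi)
    · have key : ∀ i j : Fin 6, pathAdj i j = 0 ↔ ¬ (i.val + 1 = j.val ∨ j.val + 1 = i.val) := by
        decide +kernel
      exact (H.path_pattern i j hij).trans (key i j).symm
    · rintro rfl; simp at hi
  set z := (E6Cert.zWord.map g).prod with hzdef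
  have hz : (x 3 * x 2 * x 1 * x 3 * x 4 * x 5 * x 3 * x 7 * x 8) ^ 10 = z := by
    rw [hzdef, show E6Cert.zWord = (List.replicate 10 [2, 1, 0, 2, 3, 4, 2, 5, 6]).flatten by
      decide +kernel, prod_flatten_replicate]
    simp [e0, e1, e2, e3, e4, e5, e6, mul_assoc]
  rw [hz]
  set K := closure (link D (x 1)) with hK
  have hxK : ∀ i : Fin 9, y332 1 i = false → x i ∈ K := fun i hi =>
    mem_closure_link U'.self_mem (H.mem i) (H.comm 1 i hi)
  set q3 := x 4 * x 3 * x 7 * x 3 * x 4 with hq3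
  set q4 := x 3 * x 2 * q3 * x 2 * x 3 with hq4
  set q5 := x 2 * x 1 * q4 * x 1 * x 2 with hq5
  have c3 : Commute (x 3) q3 :=
    commute_nested (H.braid' hset 4 3 (by decide)) (H.comm 4 7 (by decide))
  have c2 : Commute (x 2) q4 := commute_nested (H.braid' hset 3 2 (by decide)) c3
  have c1 : Commute (x 1) q5 := commute_nested (H.braid' hset 2 1 (by decide)) c2
  have cc : ∀ (i : Fin 9) {y : G}, y ∈ D → x i * y * x i ∈ D := fun i y hy => by
    have := hconj (x i) y hy
    rwa [inv_eq hset (H.mem i)] at this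
  have hqD : q5 ∈ D := by
    have h := cc 2 (cc 1 (cc 3 (cc 2 (cc 4 (cc 3 (H.mem 7))))))
    simpa only [hq5, hq4, hq3, mul_assoc] using h
  have hsub : ∀ l ∈ E6Cert.subWords, (∀ n ∈ l, n < 16) ∧ (l.map g).prod ∈ K := by
    intro l hl
    refine ⟨(show ∀ l ∈ E6Cert.subWords, ∀ n ∈ l, n < 16 by decide +kernel) l hl, ?_⟩
    simp only [E6Cert.subWords, List.mem_cons, List.not_mem_nil, or_false] at hl
    rcases hl with rfl | rfl | rfl | rfl | rfl | rfl | rfl
    · simpa [e0] using U'.self_mem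
    · simpa [e2] using hxK 3 (by decide)
    · simpa [e3] using hxK 4 (by decide)
    · simpa [e4] using hxK 5 (by decide)
    · simpa [e5] using hxK 7 (by decide)
    · simpa [e6] using hxK 8 (by decide)
    · have hb := H.braid' hset 7 3 (by decide)
      have : q5 ∈ K := mem_closure_link U'.self_mem hqD c1
      simp only [List.map_cons, List.map_nil, List.prod_cons, List.prod_nil, mul_one, e0, e1, e2,
        e3, e5]
      convert this using 1
      simp only [hq5, hq4, hq3, mul_assoc]
      rw [← mul_assoc (x 7) (x 3), ← mul_assoc (x 7 * x 3) (x 7), hb]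
      simp only [mul_assoc]
  have hmove : ∀ u ∈ moveE6, (u.map g).prod * z * (u.map g).prod⁻¹ ∈ K := by
    intro u hu
    obtain ⟨hlt, hscan⟩ := e6_scan u hu
    simp only [List.all_eq_true, decide_eq_true_eq] at hlt
    rw [hzdef, ← prod_conj_word g hsq]
    refine prod_mem_of_scan (ip := E6Cert.ip) (by simp [hg, letter7])
      (hinv_of_letters e6_ip fun n _ => hsq n) K E6Cert.cert E6Cert.cert_ok (fun l hl => ?_) hsub hlt
      hscan
    refine ⟨(show ∀ l ∈ E6Cert.rels, ∀ n ∈ l, n < 16 by decide +kernel) l hl, ?_⟩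
    rcases e6_rels l hl with rfl | h
    · rw [prod_flatten_replicate, List.map_cons, List.prod_cons, hXe, e0]
      exact cube_eq_one hset (H.mem 1) hXl.1 hbX
    · exact letter7_cox hset H nodeE6 l h
  have hzK : z ∈ K := by
    have := hmove [] (by decide)
    simpa using this
  have hcen : ∀ y ∈ K, Commute y (x 1) := fun y hy => mem_centralizer_singleton_iff.1
    (CfsgLib.FischerUnique.closure_link_le_centralizer hy)
  have hzc : ∀ u ∈ moveE6, Commute z ((u.map g).prod⁻¹ * x 1 * (u.map g).prod) := fun u hu =>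
    conj_commute (hcen _ (hmove u hu))
  have u1 := conj_step (a := x 1) (hsq 0) (hsq 1) (t := g 1) (U := 1)
    (by rw [e0, e1]; exact H.braid' hset 2 1 (by decide)) (by simp [e0])
  have u2 := conj_step (hsq 1) (hsq 2) (by rw [e1, e2]; exact H.braid' hset 3 2 (by decide)) u1
  have u3 := conj_step (hsq 2) (hsq 3) (by rw [e2, e3]; exact H.braid' hset 4 3 (by decide)) u2
  have u4 := conj_step (hsq 3) (hsq 4) (by rw [e3, e4]; exact H.braid' hset 5 4 (by decide)) u3
  have u5 := conj_step (hsq 2) (hsq 5) (by rw [e2, e5]; exact H.braid' hset 7 3 (by decide)) u2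
  have u6 := conj_step (hsq 5) (hsq 6) (by rw [e5, e6]; exact H.braid' hset 8 7 (by decide)) u5
  have z2 : Commute z (x 2) := by
    have := hzc [1, 0] (by decide)
    rwa [show ([1, 0].map g).prod = 1 * g 1 * g 0 by simp, u1, e1] at this
  have z3 : Commute z (x 3) := by
    have := hzc [1, 0, 2, 1] (by decide)
    rwa [show ([1, 0, 2, 1].map g).prod = 1 * g 1 * g 0 * g 2 * g 1 by simp [mul_assoc], u2,
      e2] at this
  have z4 : Commute z (x 4) := by
    have := hzc [1, 0, 2, 1, 3, 2] (by decide)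
    rwa [show ([1, 0, 2, 1, 3, 2].map g).prod = 1 * g 1 * g 0 * g 2 * g 1 * g 3 * g 2 by
      simp [mul_assoc], u3, e3] at this
  have z5 : Commute z (x 5) := by
    have := hzc [1, 0, 2, 1, 3, 2, 4, 3] (by decide)
    rwa [show ([1, 0, 2, 1, 3, 2, 4, 3].map g).prod =
      1 * g 1 * g 0 * g 2 * g 1 * g 3 * g 2 * g 4 * g 3 by simp [mul_assoc], u4, e4] at this
  have z7 : Commute z (x 7) := by
    have := hzc [1, 0, 2, 1, 5, 2] (by decide)
    rwa [show ([1, 0, 2, 1, 5, 2].map g).prod = 1 * g 1 * g 0 * g 2 * g 1 * g 5 * g 2 by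
      simp [mul_assoc], u5, e5] at this
  have z8 : Commute z (x 8) := by
    have := hzc [1, 0, 2, 1, 5, 2, 6, 5] (by decide)
    rwa [show ([1, 0, 2, 1, 5, 2, 6, 5].map g).prod =
      1 * g 1 * g 0 * g 2 * g 1 * g 5 * g 2 * g 6 * g 5 by simp [mul_assoc], u6, e6] at this
  -- the five points in the link of `b`
  obtain ⟨v', W'⟩ := H.exists_frame (Or.inr rfl) U'
  have hlam : ∀ f : Unit' (stdHerm hF 6), (∀ {w s}, P' w s → P' (f.1 w) (z * s * z⁻¹)) →
      ∃ lam : F, lam ≠ 0 ∧ ∀ i, i ≠ 5 → f.1 (v' i) = lam • v' i := by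
    intro f hf
    obtain ⟨l0, n0, h0⟩ := U'.eigen hf (W'.pts 0) z8
    obtain ⟨l1, n1, h1⟩ := U'.eigen hf (W'.pts 1) z7
    obtain ⟨l2, n2, h2⟩ := U'.eigen hf (W'.pts 2) z3
    obtain ⟨l3, n3, h3⟩ := U'.eigen hf (W'.pts 3) z4
    obtain ⟨l4, n4, h4⟩ := U'.eigen hf (W'.pts 4) z5
    have q01 : l0 = l1 := eigen_eq n1 h0 h1 (by rw [W'.gram]; simp)
    have q12 : l1 = l2 := eigen_eq n2 h1 h2 (by rw [W'.gram]; simp)
    have q32 : l3 = l2 := eigen_eq n2 h3 h2 (by rw [W'.gram]; simp)
    have q43 : l4 = l3 := eigen_eq n3 h4 h3 (by rw [W'.gram]; simp)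
    refine ⟨l2, n2, fun i hi => ?_⟩
    fin_cases i
    · rw [← q12, ← q01]; exact h0
    · rw [← q12]; exact h1
    · exact h2
    · rw [← q32]; exact h3
    · rw [← q32, ← q43]; exact h4
    · exact absurd rfl hi
  rcases W'.fix_five U' hzK 5 ![1, 0, 1, 0, 1, 0] (by decide +kernel) (by decide +kernel) rfl hset
    hlam with h | h | ⟨t, ht, h | h⟩
  · exact h
  · exact absurd (h ▸ z2) (H.nc 1 2 (by decide))
  · exfalso
    have htl : t ∈ link D (x 1) := U'.mem ht
    have htc : t ≠ x 2 := fun he => H.nc 1 2 (by decide) (he ▸ htl.2.2)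
    have htS : t ∈ link D (x 1) ∩ link D (x 2) := ⟨htl, htl.1, htc, (h ▸ z2).symm⟩
    have hcom : ∀ i, Commute t (x (pathNode i)) ↔
        pathBil ![1, 0, 1, 0, 1, 0] (Pi.single i 1) = 0 := fun i => W'.comm_iff U' ht (W'.coord i)
    have hmem : ∀ i : Fin 9, (1 : Fin 9) ≠ i → (2 : Fin 9) ≠ i → y332 1 i = false →
        y332 2 i = false → x i ∈ link D (x 1) ∩ link D (x 2) := fun i a b c d =>
      ⟨H.mem_link a c, H.mem_link b d⟩
    let y : Fin 6 → G := ![x 4, x 5, x 6, t, x 7, x 8]
    refine hR'.no_split (x := y) (fun i => ?_) fun i j hij => ?_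
    · fin_cases i
      exacts [hmem 4 (by decide) (by decide) (by decide) (by decide),
        hmem 5 (by decide) (by decide) (by decide) (by decide),
        hmem 6 (by decide) (by decide) (by decide) (by decide), htS,
        hmem 7 (by decide) (by decide) (by decide) (by decide),
        hmem 8 (by decide) (by decide) (by decide) (by decide)]
    · have t4 : Commute t (x 4) := (hcom 3).2 (by decide +kernel)
      have t5 : Commute t (x 5) := (hcom 4).2 (by decide +kernel)
      have t7 : Commute t (x 7) := (hcom 1).2 (by decide +kernel)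
      have t8 : Commute t (x 8) := (hcom 0).2 (by decide +kernel)
      have t6 : ¬ Commute t (x 6) := fun hh => absurd ((hcom 5).1 hh) (by decide +kernel)
      fin_cases i <;> fin_cases j <;> first
        | exact absurd rfl hij
        | exact iff_of_true t4 (by decide)
        | exact iff_of_true t4.symm (by decide)
        | exact iff_of_true t5 (by decide)
        | exact iff_of_true t5.symm (by decide)
        | exact iff_of_true t7 (by decide)
        | exact iff_of_true t7.symm (by decide)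
        | exact iff_of_true t8 (by decide)
        | exact iff_of_true t8.symm (by decide)
        | exact iff_of_false t6 (by decide)
        | exact iff_of_false (fun hh => t6 hh.symm) (by decide)
        | exact iff_of_true (H.comm _ _ (by decide)) (by decide)
        | exact iff_of_false (H.nc _ _ (by decide)) (by decide)
  · exact (not_commute_mul_self hset (H.mem 1) (H.mem 2) (U'.mem ht) (H.nc 1 2 (by decide))
      (h ▸ z2)).elim

end CfsgLib.FischerFi22
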