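import Cfsg.Agent.Lib.FischerFi22.UniGeom
import Cfsg.Agent.Lib.FischerUnique.Simple

set_option autoImplicit false

/-! The link of a member as the isotropic points of a unitary space of dimension six over four
elements. -/

namespace CfsgLib.FischerFi22

open Subgroup CfsgLib.Classical.Herm HermSpace CfsgLib.UnitaryTransv
open CfsgLib.ThreeTrans (link mul_self inv_eq)
open CfsgLib.FischerType (Setting Quot img toImg NoCentral exists_toImg toImg_mem commute_toImg
  commute_of_toImg eq_of_toImg)

universe u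

variable {G : Type u} [Group G] {F : Type} [Field F] [Fintype F]

/-- `P v x` says that the member `x` of the link of `a` belongs to the isotropic vector `v`. -/
structure Uni (hF : Fintype.card F = 2 ^ 2) (D : Set G) (a : G)
    (P : (Fin 6 → F) → G → Prop) : Prop where
  base : a ∈ D
  self_mem : a ∈ closure (link D a)
  mem : ∀ {v x}, P v x → x ∈ link D a
  iso : ∀ {v x}, P v x → (stdHerm hF 6).h v v = 0
  ne : ∀ {v x}, P v x → v ≠ 0
  surj : ∀ x ∈ link D a, ∃ v, P v x
  exists_pt : ∀ v, (stdHerm hF 6).h v v = 0 → v ≠ 0 → ∃ x, P v x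
  smul : ∀ {v x} {c : F}, P v x → c ≠ 0 → P (c • v) x
  inj : ∀ {v x y}, P v x → P v y → x = y
  uniq : ∀ {v w x}, P v x → P w x → ∃ c : F, c ≠ 0 ∧ w = c • v
  comm : ∀ {v w x y}, P v x → P w y → (Commute x y ↔ (stdHerm hF 6).h v w = 0)
  act : ∀ z ∈ closure (link D a), ∃ k : Unit' (stdHerm hF 6),
    ∀ {v x}, P v x → P (k.1 v) (z * x * z⁻¹)
  refl : ∀ {v w x y}, P v x → P w y → P (v + (stdHerm hF 6).h v w • w) (y * x * y⁻¹)
  kernel : ∀ z ∈ closure (link D a), (∀ x ∈ link D a, Commute z x) → z = 1 ∨ z = a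

variable {hF : Fintype.card F = 2 ^ 2} {D : Set G} {a : G} {P : (Fin 6 → F) → G → Prop}

theorem conj_image_link (hc : Cfsg.IsThreeTranspositionClass D) (g a : G) :
    (MulAut.conj g).toMonoidHom '' link D a = link D (g * a * g⁻¹) := by
  rw [← CfsgLib.ThreeTrans.link_conj hc]; rfl

theorem mem_closure_link_conj (hc : Cfsg.IsThreeTranspositionClass D) {g a z : G}
    (hz : z ∈ closure (link D a)) : g * z * g⁻¹ ∈ closure (link D (g * a * g⁻¹)) := by
  rw [← conj_image_link hc, ← MonoidHom.map_closure]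
  exact ⟨z, hz, rfl⟩

theorem Uni.transport (hc : Cfsg.IsThreeTranspositionClass D) (U : Uni hF D a P) (g : G) :
    Uni hF D (g * a * g⁻¹) fun v x => P v (g⁻¹ * x * g) := by
  have hback : ∀ x, g * (g⁻¹ * x * g) * g⁻¹ = x := fun x => by group
  have hfwd : ∀ x, g⁻¹ * (g * x * g⁻¹) * g = x := fun x => by group
  have hg : g⁻¹ * (g * a * g⁻¹) * g = a := hfwd a
  have hdown : ∀ {z}, z ∈ closure (link D (g * a * g⁻¹)) → g⁻¹ * z * g ∈ closure (link D a) := by
    intro z hz
    have h := mem_closure_link_conj hc (g := g⁻¹) hz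
    rw [inv_inv, hg] at h
    exact h
  have hlink : ∀ {x}, x ∈ link D (g * a * g⁻¹) → g⁻¹ * x * g ∈ link D a := by
    intro x hx
    have h := CfsgLib.FischerType.link_conj_mem hc g⁻¹ hx
    rw [inv_inv, hg] at h
    exact h
  refine
    { base := CfsgLib.ThreeTransp.class_conj_mem hc g U.base
      self_mem := mem_closure_link_conj hc U.self_mem
      mem := ?_
      iso := fun h => U.iso h
      ne := fun h => U.ne h
      surj := fun x hx => U.surj _ (hlink hx)
      exists_pt := ?_
      smul := fun h hc => U.smul h hc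
      inj := ?_
      uniq := fun h h' => U.uniq h h'
      comm := ?_
      act := ?_
      refl := ?_
      kernel := ?_ }
  · intro v x h
    have := CfsgLib.FischerType.link_conj_mem hc g (U.mem h)
    rwa [hback] at this
  · intro v hv hv0
    obtain ⟨x, hx⟩ := U.exists_pt v hv hv0
    exact ⟨g * x * g⁻¹, by show P v _; rw [hfwd]; exact hx⟩
  · intro v x y h h'
    have := U.inj h h'
    exact mul_left_cancel (mul_right_cancel this)
  · intro v w x y h h'
    rw [← U.comm h h']
    have := CfsgLib.ThreeTrans.commute_conj_iff' g⁻¹ x y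
    rw [inv_inv] at this
    exact this.symm
  · intro z hz
    obtain ⟨k, hk⟩ := U.act _ (hdown hz)
    refine ⟨k, fun {v x} h => ?_⟩
    show P (k.1 v) (g⁻¹ * (z * x * z⁻¹) * g)
    convert hk h using 1
    group
  · intro v w x y h h'
    show P _ (g⁻¹ * (y * x * y⁻¹) * g)
    convert U.refl h h' using 1
    group
  · intro z hz hall
    have h1 := U.kernel _ (hdown hz) fun x hx => ?_
    · rcases h1 with h1 | h1
      · left; rw [← hback z, h1]; group
      · right; rw [← hback z, h1]
    · have h2 := hall _ (CfsgLib.FischerType.link_conj_mem hc g hx)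
      have h3 := (CfsgLib.ThreeTrans.commute_conj_iff' g⁻¹ z (g * x * g⁻¹)).2 h2
      rw [inv_inv, hfwd] at h3
      exact h3

/-- The point of `x` in a link identified with the transvections of the unitary space. -/
def ptOf (hF : Fintype.card F = 2 ^ 2) (D : Set G) (a : G) (e : Quot D a ≃* Cfsg.PSU 6 F 2)
    (v : Fin 6 → F) (x : G) : Prop :=
  ∃ hx : x ∈ link D a, ∃ hv : (stdHerm hF 6).h v v = 0,
    v ≠ 0 ∧ e (toImg D a hx) = CfsgLib.FischerType.U6.ptv hF v hv

theorem uni_of_quot [Finite G] (S : Setting D) (h : Cfsg.IsOfTypeM22 G D) (ha : a ∈ D)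
    (e : Quot D a ≃* Cfsg.PSU 6 F 2) (hF4 : Fintype.card F = 4) (hF : Fintype.card F = 2 ^ 2) :
    Uni hF D a (ptOf hF D a e) := by
  have hsimple := CfsgLib.FischerType.isSimpleGroup_of_psu hF4 e
  have hpair := CfsgLib.FischerType.pair_of_nontrivial (D := D) (d := a) hsimple.toNontrivial
  have hset := S.cls.1
  have hn : NoCentral D a := S.noCentral ha hpair
  have hE := CfsgLib.FischerType.U6.eq_tv_class hF
    (CfsgLib.FischerType.class_image e (S.imgClass ha hpair))
  have hl := (S.good_of_typeM22 h).lines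
  have key : ∀ {v x} (z : ↥(closure (link D a)))
      (k : (detHom (stdHerm hF 6)).ker),
      e (QuotientGroup.mk z) = CfsgLib.FischerType.U6.proj hF k → ptOf hF D a e v x →
      ptOf hF D a e ((k : Unit' (stdHerm hF 6)).1 v) ((z : G) * x * (z : G)⁻¹) := by
    rintro v x z k hk ⟨hx, hv, hv0, he⟩
    have hza : Commute (z : G) a :=
      mem_centralizer_singleton_iff.1 (CfsgLib.FischerUnique.closure_link_le_centralizer z.2)
    have hmem : (z : G) * x * (z : G)⁻¹ ∈ link D a := by
      have := CfsgLib.FischerType.link_conj_mem S.cls (z : G) hx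
      rwa [CfsgLib.ThreeTrans.conj_self_of_commute hza] at this
    refine ⟨hmem, by rw [unit_h]; exact hv, unit_ne_zero _ hv0, ?_⟩
    have h1 : toImg D a hmem = QuotientGroup.mk z * toImg D a hx * (QuotientGroup.mk z)⁻¹ := by
      show QuotientGroup.mk' _ _ = QuotientGroup.mk' _ z * QuotientGroup.mk' _ _ *
        (QuotientGroup.mk' _ z)⁻¹
      rw [← map_mul, ← map_inv, ← map_mul]
      exact congrArg (QuotientGroup.mk' _) (Subtype.ext rfl)
    rw [h1, map_mul, map_mul, map_inv, hk, he]
    simp only [CfsgLib.FischerType.U6.ptv, ← map_inv, ← map_mul]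
    refine congrArg _ (Subtype.ext ?_)
    simp only [Subgroup.coe_mul, Subgroup.coe_inv]
    exact tv_conj hF _ _ _
  refine
    { base := ha
      self_mem := (CfsgLib.FischerUnique.link_group_of_typeM22 S h ha).1
      mem := fun ⟨hx, _⟩ => hx
      iso := fun ⟨_, hv, _⟩ => hv
      ne := fun ⟨_, _, hv0, _⟩ => hv0
      surj := ?_
      exists_pt := ?_
      smul := ?_
      inj := ?_
      uniq := ?_
      comm := ?_
      act := ?_
      refl := ?_
      kernel := ?_ }
  · intro x hx
    have : e (toImg D a hx) ∈ CfsgLib.FischerType.U6.tvSet hF (n := 6) := by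
      rw [CfsgLib.FischerType.U6.tvSet, ← hE]; exact ⟨_, toImg_mem hx, rfl⟩
    obtain ⟨v, hv, hv0, he⟩ := this
    exact ⟨v, hx, hv, hv0, he.symm⟩
  · intro v hv hv0
    have : CfsgLib.FischerType.U6.ptv hF v hv ∈ e '' img D a := by
      rw [hE]; exact ⟨v, hv, hv0, rfl⟩
    obtain ⟨q, hq, he⟩ := this
    obtain ⟨x, hx, rfl⟩ := exists_toImg hq
    exact ⟨x, hx, hv, hv0, he⟩
  · rintro v x c ⟨hx, hv, hv0, he⟩ hc
    refine ⟨hx, by rw [(stdHerm hF 6).smul_left, (stdHerm hF 6).smul_right, hv, mul_zero, mul_zero],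
      smul_ne_zero hc hv0, he.trans ?_⟩
    exact congrArg (CfsgLib.FischerType.U6.proj hF) (Subtype.ext (tv_smul hF hc hv (by rw [(stdHerm hF 6).smul_left, (stdHerm hF 6).smul_right, hv, mul_zero, mul_zero]) rfl).symm)
  · rintro v x y ⟨hx, hv, -, he1⟩ ⟨hy, _, _, he2⟩
    exact eq_of_toImg hset hn hx hy (e.injective (he1.trans he2.symm))
  · rintro v w x ⟨hx, hv, hv0, he1⟩ ⟨_, hw, hw0, he2⟩
    exact smul_of_ptv_eq hv hv0 hw hw0 (he1.symm.trans he2)
  · rintro v w x y ⟨hx, hv, hv0, he⟩ ⟨hy, hw, hw0, he'⟩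
    constructor
    · intro hxy
      have h1 := (commute_toImg hx hy hxy).map e.toMonoidHom
      simp only [MulEquiv.coe_toMonoidHom, he, he'] at h1
      exact CfsgLib.FischerType.U6.orth_of_commute_ptv hF hw hv hv0 h1.symm
    · intro h0
      have h1 := (CfsgLib.FischerType.U6.commute_ptv hF hw hv h0).symm
      rw [← he, ← he'] at h1
      exact commute_of_toImg hset hx hy ((commute_map_iff e.injective).1 h1)
  · intro z hz
    obtain ⟨k, hk⟩ := CfsgLib.FischerType.U6.proj_surjective hF (e (QuotientGroup.mk ⟨z, hz⟩))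
    exact ⟨k, fun {v x} hP => key ⟨z, hz⟩ k hk.symm hP⟩
  · rintro v w x y hP ⟨hy, hw, hw0, he⟩
    have h1 := key ⟨y, subset_closure hy⟩ ⟨tv hF w hw, det_tv hF w hw⟩ he hP
    rwa [tv_apply] at h1
  · intro z hz hall
    obtain ⟨w, hw, -⟩ := hpair
    refine CfsgLib.FischerUnique.center_link_le S hl ha hw (z := ⟨z, hz⟩) ?_
    refine mem_center_iff.2 fun y => Subtype.ext ?_
    have hle : closure (link D a) ≤ centralizer {z} :=
      (closure_le _).2 fun x hx => mem_centralizer_singleton_iff.2 (hall x hx).eq.symm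
    exact mem_centralizer_singleton_iff.1 (hle y.2)

end CfsgLib.FischerFi22
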