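import Cfsg.Agent.Lib.FischerType.SymBase
import Cfsg.Agent.Lib.FischerUnique.UnitaryGeom

set_option autoImplicit false

/-! A transvection of the six-dimensional unitary space determines its centre up to a scalar. -/

namespace CfsgLib.FischerFi22

open CfsgLib.Classical.Herm HermSpace CfsgLib.UnitaryTransv
open CfsgLib.FischerType.U6 (ptv orth_of_commute_ptv commute_ptv span_perp)

variable {F : Type*} [Field F] [Fintype F] {hF : Fintype.card F = 2 ^ 2}

theorem smul_of_ptv_eq {v w : Fin 6 → F} (hv : (stdHerm hF 6).h v v = 0) (hv0 : v ≠ 0)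
    (hw : (stdHerm hF 6).h w w = 0) (hw0 : w ≠ 0) (he : ptv hF v hv = ptv hF w hw) :
    ∃ c : F, c ≠ 0 ∧ w = c • v := by
  by_cases hs : w ∈ Submodule.span F ({v} : Set (Fin 6 → F))
  · obtain ⟨c, hc⟩ := Submodule.mem_span_singleton.1 hs
    exact ⟨c, fun h0 => hw0 (by rw [← hc, h0, zero_smul]), hc.symm⟩
  exfalso
  obtain ⟨x, hx, hx1⟩ := CfsgLib.FischerUnique.exists_dual_vec (H := stdHerm hF 6) hs
  have h1 : ∀ k, k ≠ 0 → (stdHerm hF 6).h k k = 0 → (stdHerm hF 6).h k v = 0 →
      (stdHerm hF 6).h k v = 0 → (stdHerm hF 6).h w k = 0 := by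
    intro k hk0 hk hkv _
    have h2 := commute_ptv hF hv hk hkv
    rw [he] at h2
    exact (stdHerm hF 6).h_comm_zero (orth_of_commute_ptv hF hw hk hk0 h2)
  have h3 := span_perp hF h1 (hx v (Submodule.mem_span_singleton_self v))
    (hx v (Submodule.mem_span_singleton_self v))
  rw [(stdHerm hF 6).h_comm_zero h3] at hx1
  exact zero_ne_one hx1

end CfsgLib.FischerFi22
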